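import Cfsg.Agent.Mrg.Omega.FrameI
import Cfsg.Agent.Mrg.Omega.SQ1.FFKNat
import Cfsg.Agent.Mrg.Omega.SQ1.FFOf
import Cfsg.Agent.Mrg.Omega.SQ1.FFSym
import Cfsg.Agent.ZN.Facts
import Cfsg.Agent.Mrg.Omega.SQ1.Choice

-- merged: Cfsg.Agent.Mrg.Omega.NOThreeL.RWide.UniT.Fr
section

section


/-!
# UNI_T (helper995 #27055, helper860 #27010, helper528 #27296): the abstract frame

`T` 2-group, `R` a minimal parabolic over `T`, `U = zl T R`, `Q_R = O₂(R) = C_T(U)`; blocks `N b` with lines `l b`;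
`O ≤ T` with `AA(O)`; `j` the block moved by `R`, `E c` (`c ≠ j`) elementary abelian, `R`-invariant, `N j, N c, Ω₁Z(T) ≤ E c ≤ O`.

* `Full A N l` : `A` acts on `N` as the full root group with centre `l`;
* `Fr` : the frame;
* `thom` : Thompson's inequality for every elementary abelian `X ≤ O`; `swap_mem` : the exchange.
-/

set_option autoImplicit false
set_option linter.unusedSectionVars false

namespace Cfsg.Agent.Omega.NOThreeL.RWide.UniT

open Subgroup Cfsg Cfsg.Agent.Omega.MinPar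
open Cfsg.Agent.ZN (zc o2 zl)
open Cfsg.Agent.ZN.ChoiceBase (cj AA)
open Cfsg.Agent.ZN.ChoiceSit (Syl)
open Cfsg.Agent.MinSimple.MinParabolic (IsMinPar)

universe u v

variable {G : Type u} [Group G] {ι : Type v}

/-- `A` acts on `N` as the full root group with centre `l`. -/
structure Full (A N l : Subgroup G) : Prop where
  cent : A ≤ centralizer (l : Set G)
  inl : ∀ a ∈ A, ∀ v ∈ N, a * v * a⁻¹ * v⁻¹ ∈ l
  onA : ∀ v ∈ N, v ∉ l → ∀ z ∈ l, ∃ a ∈ A, a * v * a⁻¹ * v⁻¹ = z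
  onN : ∀ a ∈ A, a ∉ centralizer (N : Set G) → ∀ z ∈ l, ∃ v ∈ N, a * v * a⁻¹ * v⁻¹ = z
  cardA : Nat.card A = Nat.card ↥(A ⊓ centralizer (N : Set G)) * Nat.card l
  ne : ¬ A ≤ centralizer (N : Set G)

/-- The blocks under `T`. -/
structure Rts (T O : Subgroup G) (N l : ι → Subgroup G) : Prop where
  two : IsPGroup 2 T
  OT : O ≤ T
  com : ∀ a b, N a ≤ centralizer (N b : Set G)
  sq : ∀ b, ∀ v ∈ N b, v * v = 1
  NO : ∀ b, N b ≤ O
  lN : ∀ b, l b ≤ N b
  dis : ∀ a b, a ≠ b → N a ⊓ N b = ⊥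
  TN : ∀ b, T ≤ normalizer (N b : Set G)
  Tl : ∀ b, T ≤ normalizer (l b : Set G)
  cardN : ∀ b, Nat.card (N b) = Nat.card (l b) * Nat.card (l b)
  lne : ∀ b, l b ≠ ⊥
  /-- an element of `T` which centralises the line acts as a root element -/
  rt : ∀ b, ∀ t ∈ T, t ∈ centralizer (l b : Set G) → (∀ v ∈ N b, t * v * t⁻¹ * v⁻¹ ∈ l b) ∧
    (t ∉ centralizer (N b : Set G) → ∀ z ∈ l b, ∃ v ∈ N b, t * v * t⁻¹ * v⁻¹ = z)
  /-- ... and is covered by every full root group -/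
  rep : ∀ b, ∀ A ≤ T, Full A (N b) (l b) → ∀ t ∈ T, t ∈ centralizer (l b : Set G) →
    ∃ a ∈ A, a⁻¹ * t ∈ centralizer (N b : Set G)
  /-- the ROOT LEMMA -/
  off : ∀ b, ∀ A ≤ T, IsElementaryAbelian 2 A →
    Nat.card (N b) * Nat.card ↥(A ⊓ centralizer (N b : Set G)) ≤
      Nat.card A * Nat.card ↥(N b ⊓ centralizer (A : Set G)) →
    A ≤ centralizer (N b : Set G) ∨ Full A (N b) (l b)
  /-- pure members of `AA(O)` -/
  pure : ∀ b, ∃ A ∈ AA O, ¬ A ≤ centralizer (N b : Set G) ∧ ∀ c, c ≠ b → A ≤ centralizer (N c : Set G)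
  I4 : zc (T ⊓ centralizer ((⨆ b, l b : Subgroup G) : Set G)) ≤ ⨆ b, l b

/-- **The frame.** -/
structure Fr [Finite G] (T O R : Subgroup G) (N l E : ι → Subgroup G) (j : ι) : Prop extends Rts T O N l where
  syl : Syl T R
  par : IsMinPar T R
  /-- `O₂(R) = C_T(U)` -/
  UQ : T ⊓ centralizer (zl T R : Set G) = o2 R
  cR : R ⊓ centralizer (o2 R : Set G) ≤ o2 R
  zT : zc T ≤ ⨆ b, (l b ⊓ centralizer (T : Set G))
  RF : ∀ b, b ≠ j → R ≤ centralizer ((l b ⊓ centralizer (T : Set G) : Subgroup G) : Set G)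
  mv : ¬ R ≤ centralizer ((l j ⊓ centralizer (T : Set G) : Subgroup G) : Set G)
  ex : ∃ c, c ≠ j
  EO : ∀ c, c ≠ j → E c ≤ O
  eab : ∀ c, c ≠ j → IsElementaryAbelian 2 (E c)
  RE : ∀ c, c ≠ j → R ≤ normalizer (E c : Set G)
  jE : ∀ c, c ≠ j → N j ≤ E c
  NE : ∀ c, c ≠ j → N c ≤ E c
  ZE : ∀ c, c ≠ j → zc T ≤ E c
  /-- an element of `L c` which moves the line -/
  lam : ∀ c, c ≠ j → ∃ m, m ∈ normalizer (E c : Set G) ∧ m ∈ normalizer (N c : Set G) ∧
    (∀ b, b ≠ c → m ∈ centralizer (N b : Set G)) ∧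
    m ∈ normalizer ((T ⊓ centralizer ((⨆ b, N b : Subgroup G) : Set G) : Subgroup G) : Set G) ∧ cj m (l c) ⊓ l c = ⊥

/-! ### Thompson's exchange -/

section thom

variable [Finite G] {O A X : Subgroup G}

theorem comA (hA : IsElementaryAbelian 2 A) : A ≤ centralizer (A : Set G) := fun x hx =>
  mem_centralizer_iff.2 fun a ha => congrArg (fun t : A => (t : G)) (hA.1.is_comm.comm ⟨a, ha⟩ ⟨x, hx⟩)

theorem eab_mono (hA : IsElementaryAbelian 2 A) (hX : X ≤ A) : IsElementaryAbelian 2 X :=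
  ⟨⟨⟨fun a b => Subtype.ext (congrArg (fun t : A => (t : G)) (hA.1.is_comm.comm ⟨a, hX a.2⟩ ⟨b, hX b.2⟩))⟩⟩,
    fun a ha => hA.2 a (hX ha)⟩

/-- **Thompson's inequality** -/
theorem thom (hA : A ∈ AA O) (hX : IsElementaryAbelian 2 X) (hXO : X ≤ O) :
    Nat.card X * Nat.card ↥(A ⊓ centralizer (X : Set G)) ≤ Nat.card A * Nat.card ↥(X ⊓ centralizer (A : Set G)) := by
  have hc : A ⊓ centralizer (X : Set G) ≤ centralizer (X : Set G) := inf_le_right
  have h1 := Cfsg.Agent.PLocal.ElemAbSup.isElementaryAbelian_sup hX (eab_mono hA.1 inf_le_left) hc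
  have h2 := hA.2.2 _ h1 (sup_le hXO (inf_le_left.trans hA.2.1))
  have h3 := Cfsg.Agent.PLocal.ElemAbSup.card_sup_mul_card_inf hc
  have h4 : Nat.card ↥(X ⊓ (A ⊓ centralizer (X : Set G))) ≤ Nat.card ↥(X ⊓ centralizer (A : Set G)) :=
    Subgroup.card_le_of_le (le_inf inf_le_left (inf_le_right.trans (inf_le_left.trans (comA hA.1))))
  rw [← h3]
  exact Nat.mul_le_mul h2 h4

/-- `C_X(A) ≤ A` -/
theorem cent_le (hA : A ∈ AA O) (hX : IsElementaryAbelian 2 X) (hXO : X ≤ O) : X ⊓ centralizer (A : Set G) ≤ A := by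
  have hc : X ⊓ centralizer (A : Set G) ≤ centralizer (A : Set G) := inf_le_right
  have h1 := Cfsg.Agent.PLocal.ElemAbSup.isElementaryAbelian_sup hA.1 (eab_mono hX inf_le_left) hc
  have h2 := hA.2.2 _ h1 (sup_le hA.2.1 (inf_le_left.trans hXO))
  have h3 : A ⊔ (X ⊓ centralizer (A : Set G)) = A :=
    (Subgroup.eq_of_le_of_card_ge le_sup_left h2).symm
  exact sup_eq_left.1 h3

/-- **the exchange** : equality gives `C_A(X) X ∈ AA(O)` -/
theorem swap_mem (hA : A ∈ AA O) (hX : IsElementaryAbelian 2 X) (hXO : X ≤ O)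
    (h : Nat.card A * Nat.card ↥(X ⊓ centralizer (A : Set G)) ≤ Nat.card X * Nat.card ↥(A ⊓ centralizer (X : Set G))) :
    (A ⊓ centralizer (X : Set G)) ⊔ X ∈ AA O := by
  have hc : A ⊓ centralizer (X : Set G) ≤ centralizer (X : Set G) := inf_le_right
  have h1 := Cfsg.Agent.PLocal.ElemAbSup.isElementaryAbelian_sup hX (eab_mono hA.1 inf_le_left) hc
  have h3 := Cfsg.Agent.PLocal.ElemAbSup.card_sup_mul_card_inf hc
  have h4 : Nat.card ↥(X ⊓ (A ⊓ centralizer (X : Set G))) ≤ Nat.card ↥(X ⊓ centralizer (A : Set G)) :=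
    Subgroup.card_le_of_le (le_inf inf_le_left (inf_le_right.trans (inf_le_left.trans (comA hA.1))))
  rw [sup_comm]
  refine ⟨h1, sup_le hXO (inf_le_left.trans hA.2.1), fun B hB hBO => (hA.2.2 B hB hBO).trans ?_⟩
  rw [← h3] at h
  have h5 : Nat.card A * Nat.card ↥(X ⊓ centralizer (A : Set G)) ≤
      Nat.card ↥(X ⊔ A ⊓ centralizer (X : Set G)) * Nat.card ↥(X ⊓ centralizer (A : Set G)) :=
    h.trans (Nat.mul_le_mul_left _ h4)
  exact Nat.le_of_mul_le_mul_right h5 Nat.card_pos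

end thom

end Cfsg.Agent.Omega.NOThreeL.RWide.UniT

end

section


/-!
# `cT_le`: part F of the uniqueness of blocks in the left case (#27055 (6))

`R` a minimal parabolic over `T`, `U = zl T R`; a module `Y` with a line `l ≤ U` on which an offender `A` of `U`
acts with full transvections: `T ∩ C(Y) ≤ O₂(R)`.
-/

set_option autoImplicit false
set_option linter.unusedSectionVars false
set_option linter.unusedVariables false

namespace Cfsg.Agent.Omega.NOThreeL.RWide.UniT.FF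

open Subgroup Cfsg Cfsg.Agent.ZN Cfsg.Agent.ZN.ChoiceBase Cfsg.Agent.ZN.ChoiceSit
open Cfsg.Agent.Omega.NatPair Cfsg.Agent.Lib.SL2Mat
open Cfsg.Agent.Omega.SQ1.FFOne (MinH minH_of mem_norm_of)
open Cfsg.Agent.Omega.SQ1.FFOf (cv_le cv_norm)
open Cfsg.Agent.Omega.FFThm
open Cfsg.Agent.Omega.FrameFF (cv)
open Cfsg.Agent.MinSimple.MinParabolic (IsMinPar)
open Cfsg.Agent.MinSimple.VModule (oddGen mem_oddGen oddGen_def oddGen_le_of_sup le_normalizer_oddGen
  oddGen_le)

universe u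

variable {G : Type u} [Group G]

/-! ### Coordinates -/

section add

variable {U : Subgroup G} {M : Type*} [AddGroup M] {e : G → M}

theorem e_one (h : ∀ v ∈ U, ∀ w ∈ U, e (v * w) = e v + e w) : e 1 = 0 := by
  have := h 1 (one_mem U) 1 (one_mem U)
  rw [one_mul] at this
  exact left_eq_add.1 this

theorem e_inv (h : ∀ v ∈ U, ∀ w ∈ U, e (v * w) = e v + e w) {v : G} (hv : v ∈ U) : e v⁻¹ = - e v := by
  have := h v hv v⁻¹ (inv_mem hv)
  rw [mul_inv_cancel, e_one h] at this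
  exact (neg_eq_of_add_eq_zero_right this.symm).symm

theorem e_div (h : ∀ v ∈ U, ∀ w ∈ U, e (v * w) = e v + e w) {v w : G} (hv : v ∈ U) (hw : w ∈ U) :
    e (v * w⁻¹) = e v - e w := by
  rw [h v hv w⁻¹ (inv_mem hw), e_inv h hw, sub_eq_add_neg]

end add

/-! ### Elementary facts -/

variable [Finite G] {T R Y l A : Subgroup G}

private theorem oddGen_sup_syl {P S : Subgroup G} (hS : Syl S P) : oddGen P ⊔ S = P := by
  have : Fact (Nat.Prime 2) := ⟨Nat.prime_two⟩
  have hSyl := syl_not_dvd hS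
  apply le_antisymm (sup_le (oddGen_le P) hS.1)
  have hN : ((oddGen P).subgroupOf P).Normal :=
    normal_subgroupOf_of_le_normalizer (le_normalizer_oddGen P)
  have h1 : IsPGroup 2 (P ⧸ (oddGen P).subgroupOf P) := by
    intro q
    obtain ⟨x, rfl⟩ := QuotientGroup.mk_surjective q
    obtain ⟨a, m, hm, ha⟩ := Nat.exists_eq_pow_mul_and_not_dvd (orderOf_pos (x : G)).ne' 2 (by norm_num)
    refine ⟨a, ?_⟩
    rw [← QuotientGroup.mk_pow, QuotientGroup.eq_one_iff, mem_subgroupOf]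
    refine mem_oddGen (P.pow_mem x.2 _) ?_
    have hm0 : 0 < m := Nat.pos_of_ne_zero (by rintro rfl; simp at hm)
    have h2 : orderOf ((x : G) ^ 2 ^ a) = m := by
      rw [orderOf_pow_of_dvd (by positivity) (ha ▸ Dvd.intro _ rfl), ha,
        Nat.mul_div_cancel_left _ (by positivity)]
    rw [coe_pow, h2]
    exact Nat.not_even_iff_odd.1 fun h => hm h.two_dvd
  obtain ⟨k, hk⟩ := IsPGroup.iff_card.1 h1
  have h2 : (oddGen P ⊔ S).relIndex P ∣ 2 ^ k := by
    have h3 : (oddGen P ⊔ S).relIndex P ∣ (oddGen P).relIndex P := relIndex_dvd_of_le_left _ le_sup_left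
    have h4 : (oddGen P).relIndex P = 2 ^ k := by
      rw [← hk, relIndex, index_eq_card]
    rwa [h4] at h3
  obtain ⟨j, -, hj⟩ := (Nat.dvd_prime_pow Nat.prime_two).1 h2
  have h5 : (oddGen P ⊔ S).relIndex P ∣ S.relIndex P := relIndex_dvd_of_le_left _ le_sup_right
  rw [hj] at h5
  rcases Nat.eq_zero_or_pos j with rfl | hj0
  · rw [pow_zero] at hj
    exact relIndex_eq_one.1 hj
  · exact absurd ((dvd_pow_self 2 hj0.ne').trans h5) hSyl

/-- The elementary facts on `U = zl T R`. -/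
structure Bas (T R : Subgroup G) : Prop where
  hm : MinH R T
  Un : ∀ h ∈ R, ∀ v ∈ zl T R, h * v * h⁻¹ ∈ zl T R
  Usq : ∀ v ∈ zl T R, v ^ 2 = 1
  UcQ : ∀ x ∈ o2 R, ∀ v ∈ zl T R, x * v = v * x

theorem Bas.of (hT : Syl T R) (hP : IsMinPar T R) (hc : R ⊓ centralizer (o2 R : Set G) ≤ o2 R) :
    Bas T R where
  hm := minH_of hT hP hc
  Un h hh v hv := (mem_normalizer_iff.1 (MinSimple.VModule.le_normalizer_zl T R hh) v).1 hv
  Usq v hv := (ChoiceBase.mem_zc.1
    (MinSimple.VModule.zl_le_zc hT.1 hT.2.1 (syl_not_dvd hT) hc hv)).2.1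
  UcQ x hx v hv := by
    have := (ChoiceBase.mem_zc.1
      (MinSimple.VModule.zl_le_zc hT.1 hT.2.1 (syl_not_dvd hT) hc hv)).2.2 x hx
    exact this

/-- A point of `Z(T)` which `R` moves. -/
structure Mov (T R : Subgroup G) (z : G) : Prop where
  mem : z ∈ zl T R
  cen : ∀ t ∈ T, t * z = z * t
  mov : ¬ ∀ r ∈ R, r * z = z * r

theorem Mov.not_odd {z : G} (hz : Mov T R z) (hT : Syl T R) : ¬ ∀ x ∈ oddGen R, x * z = z * x := by
  intro h
  apply hz.mov
  intro r hr
  have h1 : R ≤ centralizer ({z} : Set G) := by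
    conv_lhs => rw [← oddGen_sup_syl hT]
    exact sup_le (fun x hx => mem_centralizer_singleton_iff.2 (h x hx))
      fun x hx => mem_centralizer_singleton_iff.2 (hz.cen x hx)
  exact mem_centralizer_singleton_iff.1 (h1 hr)

theorem Mov.not_cv {z : G} (hz : Mov T R z) (hT : Syl T R) : z ∉ cv T R := fun h =>
  hz.not_odd hT fun x hx => mem_centralizer_iff.1 h.2 x hx

/-- Elements of `T` which are trivial on `U / D` lie in `O₂(R)`. -/
theorem Bas.mem_o2 (h : Bas T R) {z t : G} (hz : Mov T R z) (ht : t ∈ T)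
    (hD : ∀ u ∈ zl T R, t * u * t⁻¹ * u⁻¹ ∈ cv T R) : t ∈ o2 R := by
  have hT := h.hm.syl
  let N : Subgroup G :=
    { carrier := {x | x ∈ R ∧ ∀ u ∈ zl T R, x * u * x⁻¹ * u⁻¹ ∈ cv T R}
      mul_mem' := by
        rintro x y ⟨hx, hx'⟩ ⟨hy, hy'⟩
        refine ⟨mul_mem hx hy, fun u hu => ?_⟩
        have e : x * y * u * (x * y)⁻¹ * u⁻¹ =
            (x * (y * u * y⁻¹) * x⁻¹ * (y * u * y⁻¹)⁻¹) * (y * u * y⁻¹ * u⁻¹) := by group
        rw [e]
        exact mul_mem (hx' _ (h.Un y hy u hu)) (hy' u hu)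
      one_mem' := by
        refine ⟨one_mem R, fun u hu => ?_⟩
        rw [one_mul, inv_one, mul_one, mul_inv_cancel]
        exact one_mem _
      inv_mem' := by
        rintro x ⟨hx, hx'⟩
        refine ⟨inv_mem hx, fun u hu => ?_⟩
        have h1 := inv_mem (hx' _ (h.Un x⁻¹ (inv_mem hx) u hu))
        have e : (x * (x⁻¹ * u * x⁻¹⁻¹) * x⁻¹ * (x⁻¹ * u * x⁻¹⁻¹)⁻¹)⁻¹ =
            x⁻¹ * u * x⁻¹⁻¹ * u⁻¹ := by group
        rwa [e] at h1 }
  have hNR : N ≤ R := fun x hx => hx.1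
  have hNn : ∀ g ∈ R, ∀ x ∈ N, g * x * g⁻¹ ∈ N := by
    rintro g hg x ⟨hx, hx'⟩
    refine ⟨mul_mem (mul_mem hg hx) (inv_mem hg), fun u hu => ?_⟩
    have h1 := cv_norm g hg _ (hx' _ (h.Un g⁻¹ (inv_mem hg) u hu))
    have e : g * (x * (g⁻¹ * u * g⁻¹⁻¹) * x⁻¹ * (g⁻¹ * u * g⁻¹⁻¹)⁻¹) * g⁻¹ =
        g * x * g⁻¹ * u * (g * x * g⁻¹)⁻¹ * u⁻¹ := by group
    rwa [e] at h1
  have hne : N ⊔ T ≠ R := by
    intro e
    have h1 : oddGen R ≤ N := oddGen_le_of_sup (fun g hg => mem_norm_of (hNn g hg)) e.ge hT.1 hNR hT.2.1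
    apply hz.not_odd hT
    have h2 : oddGen R ≤ centralizer ({z} : Set G) := by
      rw [oddGen_def, closure_le]
      rintro x ⟨hx, ho⟩
      have hxo : x ∈ oddGen R := mem_oddGen hx ho
      obtain ⟨-, hx2⟩ := h1 hxo
      have hd := hx2 z hz.mem
      set d := x * z * x⁻¹ * z⁻¹ with hdd
      have hxd : x * d = d * x := mem_centralizer_iff.1 hd.2 x hxo
      have hd2 : d ^ 2 = 1 := h.Usq d hd.1
      have hxz : x * z = d * z * x := by rw [hdd]; group
      have hn : ∀ n : ℕ, x ^ n * z = d ^ n * z * x ^ n := by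
        intro n
        induction n with
        | zero => simp
        | succ n ih =>
          have hc : Commute x (d ^ n) := (show Commute x d from hxd).pow_right n
          calc x ^ (n + 1) * z = x * (x ^ n * z) := by rw [pow_succ']; group
            _ = x * d ^ n * z * x ^ n := by rw [ih]; group
            _ = d ^ n * (x * z) * x ^ n := by rw [hc.eq]; group
            _ = d ^ (n + 1) * z * x ^ (n + 1) := by rw [hxz, pow_succ, pow_succ' x]; group
      have h3 := hn (orderOf x)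
      rw [pow_orderOf_eq_one, one_mul, mul_one] at h3
      have h4 : d ^ orderOf x = 1 := (mul_eq_right.1 h3.symm)
      obtain ⟨k, hk⟩ := ho
      rw [hk, pow_succ, pow_mul, hd2, one_pow, one_mul] at h4
      rw [h4, one_mul] at hxz
      exact mem_centralizer_singleton_iff.2 hxz
    exact fun x hx => mem_centralizer_singleton_iff.1 (h2 hx)
  exact h.hm.inf_le hNR hNn hne ⟨ht, hT.1 ht, hD⟩

/-! ### Sums of natural modules -/

section nat

variable {F : Type} [Field F] {k : ℕ}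

/-- `g` acts as an upper unitriangular element of `SL₂(F)^k` on `U / D`. -/
def Ac (e : G → Fin k → Fin 2 → F) (U : Subgroup G) (g : G) (b : Fin k → F) : Prop :=
  ∀ v ∈ U, ∀ i, e (g * v * g⁻¹) i = ap (up (b i)) (e v i)

theorem Ac.mul {e : G → Fin k → Fin 2 → F} {U : Subgroup G} {g h : G} {b c : Fin k → F}
    (hb : Ac e U g b) (hc : Ac e U h c) (hh : ∀ v ∈ U, h * v * h⁻¹ ∈ U) : Ac e U (g * h) (b + c) := by
  intro v hv i
  have e1 : g * h * v * (g * h)⁻¹ = g * (h * v * h⁻¹) * g⁻¹ := by group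
  rw [e1, hb _ (hh v hv) i, hc v hv i, ← ap_mul, up_mul, Pi.add_apply]

theorem Ac.inv {e : G → Fin k → Fin 2 → F} {U : Subgroup G} {g : G} {b : Fin k → F}
    (hb : Ac e U g b) (hh : ∀ v ∈ U, g⁻¹ * v * g⁻¹⁻¹ ∈ U) : Ac e U g⁻¹ (-b) := by
  intro v hv i
  have h1 := hb _ (hh v hv) i
  have e1 : g * (g⁻¹ * v * g⁻¹⁻¹) * g⁻¹ = v := by group
  rw [e1] at h1
  rw [h1, Pi.neg_apply, ← up_inv, ap_inv_ap]

theorem ap_up' (a : F) (x : Fin 2 → F) : ap (up a) x - x = ![a * x 1, 0] := by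
  apply ext2
  · rw [Pi.sub_apply, ap_zero', up_00, up_01]
    show 1 * x 0 + a * x 1 - x 0 = a * x 1
    ring
  · rw [Pi.sub_apply, ap_one', up_10, up_11]
    show 0 * x 0 + 1 * x 1 - x 1 = 0
    ring

end nat

theorem nat_le {F : Type} [Field F] [Finite F] [CharP F 2] {k : ℕ} (h : Bas T R)
    (M : NatK F T R (zl T R) (cv T R) k) (hA : A ≤ T) (hoff : Off (zl T R) A)
    (TY : T ≤ normalizer (Y : Set G)) (hl : l ≤ zl T R) {z : G} (hzl : z ∈ l) (hz : Mov T R z)
    (cov : ∀ v ∈ Y, ∃ u ∈ zl T R, ∃ c ∈ centralizer (A : Set G), v = u * c)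
    (inl : ∀ a ∈ A, ∀ v ∈ Y, a * v * a⁻¹ * v⁻¹ ∈ l)
    (full : ∀ a ∈ A, a ∉ centralizer (Y : Set G) → ∀ z ∈ l, ∃ v ∈ Y, z = a * v * a⁻¹ * v⁻¹)
    (hne : ¬ A ≤ centralizer (Y : Set G)) (hQ : o2 R ≤ centralizer (Y : Set G)) :
    T ⊓ centralizer (Y : Set G) ≤ o2 R := by
  classical
  have hT := h.hm.syl
  have hTR : ∀ t ∈ T, t ∈ R := fun t ht => hT.1 ht
  obtain ⟨I, h1, h2⟩ := M.off A hA hoff
  have UT : ∀ t ∈ T, ∀ v ∈ zl T R, t * v * t⁻¹ ∈ zl T R := fun t ht => h.Un t (hTR t ht)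
  have key : ∀ t ∈ T, (∀ v ∈ zl T R, M.e (t * v * t⁻¹) = M.e v) → t ∈ o2 R := by
    intro t ht h0
    refine h.mem_o2 hz ht fun u hu => ?_
    rw [← M.ker _ (mul_mem (UT t ht u hu) (inv_mem hu)), e_div M.mul (UT t ht u hu) hu, h0 u hu,
      sub_self]
  -- commutators of `A` on `Y` come from `U`
  have hcom : ∀ v ∈ Y, ∃ u ∈ zl T R, ∀ a ∈ A, a * v * a⁻¹ * v⁻¹ = a * u * a⁻¹ * u⁻¹ := by
    intro v hv
    obtain ⟨u, hu, c, hc, rfl⟩ := cov v hv
    refine ⟨u, hu, fun a ha => ?_⟩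
    have h3 : a * c = c * a := mem_centralizer_iff.1 hc a ha
    calc a * (u * c) * a⁻¹ * (u * c)⁻¹ = a * u * (c * a⁻¹) * c⁻¹ * u⁻¹ := by group
      _ = a * u * (a⁻¹ * (a * c) * a⁻¹) * c⁻¹ * u⁻¹ := by group
      _ = a * u * a⁻¹ * u⁻¹ := by rw [h3]; group
  -- step A
  have stepA : ∀ s : Finset (Fin k), ∀ a ∈ A, a ∉ centralizer (Y : Set G) → ∀ b : Fin k → F,
      (∀ i, i ∉ I → b i = 0) → (∀ i, i ∉ s → b i = 0) → Ac M.e (zl T R) a b →
      ∃ i ∈ I, ∃ c : F, ∃ a' ∈ A, a' ∉ centralizer (Y : Set G) ∧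
        Ac M.e (zl T R) a' (Pi.single i c) := by
    intro s
    induction s using Finset.induction_on with
    | empty =>
      intro a ha haY b hbI hbs hab
      exfalso
      apply haY
      apply hQ
      refine key a (hA ha) fun v hv => ?_
      funext i
      rw [hab v hv i, hbs i (by simp), up_zero, ap_one]
    | insert j s hj ih =>
      intro a ha haY b hbI hbs hab
      by_cases hjI : j ∈ I
      · obtain ⟨a₁, ha₁, hact⟩ := h2 (Pi.single j (b j)) fun i hi => by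
          rw [Pi.single_eq_of_ne (by rintro rfl; exact hi hjI)]
        by_cases hc : a₁ ∈ centralizer (Y : Set G)
        · have h3 : Ac M.e (zl T R) (a₁⁻¹ * a) (-(Pi.single j (b j)) + b) :=
            Ac.mul (Ac.inv (show Ac M.e (zl T R) a₁ (Pi.single j (b j)) from hact.1)
              (UT _ (inv_mem (hA ha₁)))) hab (UT _ (hA ha))
          refine ih (a₁⁻¹ * a) (mul_mem (inv_mem ha₁) ha) (fun h4 => haY ?_) _ (fun i hi => ?_)
            (fun i hi => ?_) h3
          · have := mul_mem hc h4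
            rwa [mul_inv_cancel_left] at this
          · rw [Pi.add_apply, Pi.neg_apply, hbI i hi,
              Pi.single_eq_of_ne (by rintro rfl; exact hi hjI)]
            simp
          · rw [Pi.add_apply, Pi.neg_apply]
            by_cases hij : i = j
            · subst hij
              rw [Pi.single_eq_same, neg_add_cancel]
            · rw [Pi.single_eq_of_ne hij, hbs i (by simp [hij, hi])]
              simp
        · exact ⟨j, hjI, b j, a₁, ha₁, hc, hact.1⟩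
      · refine ih a ha haY b hbI (fun i hi => ?_) hab
        by_cases hij : i = j
        · subst hij
          exact hbI i hjI
        · exact hbs i (by simp [hij, hi])
  obtain ⟨a₀, ha₀, ha₀Y⟩ := SetLike.not_le_iff_exists.1 hne
  obtain ⟨b₀, hb₀, hab₀⟩ := h1 a₀ ha₀
  obtain ⟨i, hiI, c, a, ha, haY, hac⟩ := stepA Finset.univ a₀ ha₀ ha₀Y b₀ hb₀ (by simp) hab₀.1
  -- step B
  obtain ⟨v, hv, ezv⟩ := full a ha haY z hzl
  obtain ⟨u, hu, hvu⟩ := hcom v hv
  have hecomm : ∀ (a' : G) (b : Fin k → F), a' ∈ A → Ac M.e (zl T R) a' b → ∀ j,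
      M.e (a' * v * a'⁻¹ * v⁻¹) j = ![b j * M.e u j 1, 0] := by
    intro a' b ha' hb j
    rw [hvu a' ha', e_div M.mul (UT a' (hA ha') u hu) hu, Pi.sub_apply, hb u hu j, ap_up']
  have hz0 : M.e z ≠ 0 := fun h0 => hz.not_cv hT ((M.ker z hz.mem).1 h0)
  have hzj : ∀ j, j ≠ i → M.e z j = 0 := by
    intro j hj
    rw [ezv, hecomm a _ ha hac j, Pi.single_eq_of_ne hj, zero_mul]
    apply ext2 <;> rfl
  have hzi : M.e z i ≠ 0 := by
    intro h0
    apply hz0
    funext j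
    by_cases hj : j = i
    · rw [hj, h0]; rfl
    · rw [hzj j hj]; rfl
  have hu1 : M.e u i 1 ≠ 0 := by
    intro h0
    apply hzi
    rw [ezv, hecomm a _ ha hac i, h0, mul_zero]
    apply ext2 <;> rfl
  -- one summand
  have hone : ∀ j, j = i := by
    intro j
    by_contra hj
    obtain ⟨t, ht, htr⟩ := M.trans i j
    have h3 := htr z hz.mem
    rw [hz.cen t ht, mul_inv_cancel_right] at h3
    exact hzi (h3.1 (hzj j hj))
  have hact : ∀ x : F, ∃ a' ∈ A, Ac M.e (zl T R) a' (Pi.single i x) := by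
    intro x
    obtain ⟨a', ha', h3⟩ := h2 (Pi.single i x) fun j hj => by
      rw [Pi.single_eq_of_ne (by rintro rfl; exact hj hiI)]
    exact ⟨a', ha', h3.1⟩
  -- the line in `l ∩ Y`
  have hline : ∀ x : F, ∃ w ∈ zl T R, w ∈ Y ∧ M.e w i = ![x, 0] := by
    intro x
    obtain ⟨a', ha', h3⟩ := hact (x / M.e u i 1)
    refine ⟨a' * v * a'⁻¹ * v⁻¹, hl (inl a' ha' v hv), ?_, ?_⟩
    · exact mul_mem ((mem_normalizer_iff.1 (TY (hA ha')) v).1 hv) (inv_mem hv)
    · rw [hecomm a' _ ha' h3 i, Pi.single_eq_same, div_mul_cancel₀ _ hu1]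
  obtain ⟨hh, hhR, hhact, -⟩ := M.lift fun _ => lo 1
  rintro t ⟨ht, htY⟩
  have htw : ∀ w ∈ Y, t * w * t⁻¹ = w := by
    intro w hw
    rw [← mem_centralizer_iff.1 htY w hw, mul_inv_cancel_right]
  obtain ⟨B, hB⟩ := M.norm t (hTR t ht) hh hhR (fun _ => lo 1) hhact
  -- the action of `t`
  have hcoord : ∀ v' ∈ zl T R, M.e (t * v' * t⁻¹) i =
      ![M.e v' i 0 + (ent (B i) 0 0 - 1) * M.e v' i 1, ent (B i) 1 0 * M.e v' i 1] := by
    intro v' hv'
    obtain ⟨w₁, hw₁, hw₁Y, ew₁⟩ := hline (M.e v' i 0)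
    obtain ⟨w₂, hw₂, hw₂Y, ew₂⟩ := hline (M.e v' i 1)
    have hhw := h.Un hh hhR w₂ hw₂
    have e3 : M.e (hh * w₂ * hh⁻¹ * w₂⁻¹) i = ![0, M.e v' i 1] := by
      rw [e_div M.mul hhw hw₂, Pi.sub_apply, hhact w₂ hw₂ i, ew₂]
      apply ext2
      · rw [Pi.sub_apply, ap_zero', lo_00, lo_01]
        show 1 * M.e v' i 1 + 0 * 0 - M.e v' i 1 = 0
        ring
      · rw [Pi.sub_apply, ap_one', lo_10, lo_11]
        show 1 * M.e v' i 1 + 1 * 0 - 0 = M.e v' i 1
        ring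
    have hw3 : hh * w₂ * hh⁻¹ * w₂⁻¹ ∈ zl T R := mul_mem hhw (inv_mem hw₂)
    have hd : v' * (w₁ * (hh * w₂ * hh⁻¹ * w₂⁻¹))⁻¹ ∈ cv T R := by
      rw [← M.ker _ (mul_mem hv' (inv_mem (mul_mem hw₁ hw3))), e_div M.mul hv' (mul_mem hw₁ hw3),
        M.mul _ hw₁ _ hw3]
      funext j
      rw [hone j, Pi.sub_apply, Pi.add_apply, ew₁, e3]
      apply ext2
      · show M.e v' i 0 - (M.e v' i 0 + 0) = 0
        ring
      · show M.e v' i 1 - (0 + M.e v' i 1) = 0
        ring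
    have hd' := cv_norm t (hTR t ht) _ hd
    have e4 : t * v' * t⁻¹ = (t * (v' * (w₁ * (hh * w₂ * hh⁻¹ * w₂⁻¹))⁻¹) * t⁻¹) *
        ((t * w₁ * t⁻¹) * (((t * hh * t⁻¹) * (t * w₂ * t⁻¹) * (t * hh * t⁻¹)⁻¹) *
          (t * w₂ * t⁻¹)⁻¹)) := by group
    have hth : t * hh * t⁻¹ ∈ R := mul_mem (mul_mem (hTR t ht) hhR) (inv_mem (hTR t ht))
    have h5 := h.Un _ hth w₂ hw₂
    rw [e4, htw w₁ hw₁Y, htw w₂ hw₂Y, M.mul _ (cv_le hd') _ (mul_mem hw₁ (mul_mem h5 (inv_mem hw₂))),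
      (M.ker _ (cv_le hd')).2 hd', zero_add, M.mul _ hw₁ _ (mul_mem h5 (inv_mem hw₂)),
      e_div M.mul h5 hw₂, Pi.add_apply, Pi.sub_apply, hB w₂ hw₂ i, ew₁, ew₂]
    apply ext2
    · rw [Pi.add_apply, Pi.sub_apply, ap_zero']
      show M.e v' i 0 + (ent (B i) 0 0 * M.e v' i 1 + ent (B i) 0 1 * 0 - M.e v' i 1) =
        M.e v' i 0 + (ent (B i) 0 0 - 1) * M.e v' i 1
      ring
    · rw [Pi.add_apply, Pi.sub_apply, ap_one']
      show 0 + (ent (B i) 1 0 * M.e v' i 1 + ent (B i) 1 1 * 0 - 0) = ent (B i) 1 0 * M.e v' i 1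
      ring
  -- `t` is a 2-element
  have hB1 : ent (B i) 1 0 = 1 := by
    have hpow : ∀ n : ℕ, ∀ v' ∈ zl T R, M.e (t ^ n * v' * (t ^ n)⁻¹) i 1 =
        ent (B i) 1 0 ^ n * M.e v' i 1 := by
      intro n
      induction n with
      | zero => intro v' hv'; simp
      | succ n ih =>
        intro v' hv'
        have e5 : t ^ (n + 1) * v' * (t ^ (n + 1))⁻¹ = t ^ n * (t * v' * t⁻¹) * (t ^ n)⁻¹ := by
          rw [pow_succ]; group
        rw [e5, ih _ (UT t ht v' hv'), hcoord v' hv', pow_succ, mul_assoc]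
        rfl
    obtain ⟨n, hn⟩ := hT.2.1 ⟨t, ht⟩
    have hn' : t ^ 2 ^ n = 1 := by simpa using congrArg Subtype.val hn
    obtain ⟨v', hv', ev'⟩ := M.surj fun _ => ![0, 1]
    have h3 := hpow (2 ^ n) v' hv'
    rw [hn', one_mul, inv_one, mul_one, ev'] at h3
    have h4 : ent (B i) 1 0 ^ 2 ^ n = 1 := by
      have : (1 : F) = ent (B i) 1 0 ^ 2 ^ n * 1 := h3
      rw [mul_one] at this
      exact this.symm
    have : Fact (Nat.Prime 2) := ⟨Nat.prime_two⟩
    have h5 : (ent (B i) 1 0 - 1) ^ 2 ^ n = 0 := by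
      rw [sub_pow_char_pow, h4, one_pow, sub_self]
    exact sub_eq_zero.1 (pow_eq_zero_iff (by positivity) |>.1 h5)
  have htAc : Ac M.e (zl T R) t (Pi.single i (ent (B i) 0 0 - 1)) := by
    intro v' hv' j
    rw [hone j, hcoord v' hv', hB1, Pi.single_eq_same]
    apply ext2
    · rw [ap_zero', up_00, up_01]
      show M.e v' i 0 + (ent (B i) 0 0 - 1) * M.e v' i 1 =
        1 * M.e v' i 0 + (ent (B i) 0 0 - 1) * M.e v' i 1
      ring
    · rw [ap_one', up_10, up_11]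
      show 1 * M.e v' i 1 = 0 * M.e v' i 0 + 1 * M.e v' i 1
      ring
  obtain ⟨a', ha', h3⟩ := hact (ent (B i) 0 0 - 1)
  have h4 : t * a'⁻¹ ∈ o2 R := by
    refine key _ (mul_mem ht (inv_mem (hA ha'))) fun v' hv' => ?_
    have h5 := Ac.mul htAc (Ac.inv h3 (UT _ (inv_mem (hA ha')))) (UT _ (inv_mem (hA ha')))
    funext j
    rw [h5 v' hv' j, add_neg_cancel, Pi.zero_apply, up_zero, ap_one]
  have h5 : a' ∈ centralizer (Y : Set G) := by
    have h6 := mul_mem (inv_mem (hQ h4)) htY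
    have e : (t * a'⁻¹)⁻¹ * t = a' := by group
    rwa [e] at h6
  have h6 : a' * v * a'⁻¹ * v⁻¹ = 1 := by
    rw [← mem_centralizer_iff.1 h5 v hv]; group
  have h7 := hecomm a' _ ha' h3 i
  rw [h6, e_one M.mul, Pi.single_eq_same] at h7
  have h8 : (ent (B i) 0 0 - 1) * M.e u i 1 = 0 := (congrFun h7 0).symm
  have h9 : ent (B i) 0 0 - 1 = 0 := (mul_eq_zero.1 h8).resolve_right hu1
  refine key t ht fun v' hv' => ?_
  funext j
  rw [htAc v' hv' j, h9, Pi.single_zero, Pi.zero_apply, up_zero, ap_one]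

/-! ### Sums of even-subset modules -/

theorem sym_uniq {k m : ℕ} (hm : 2 ≤ m) {U D H : Subgroup G} (M : SymK T H U D k m) {g : G}
    {τ τ' : Fin k → Equiv.Perm (Fin (2 ^ m + 1))} (h1 : ActsSym M.e U g 1 τ)
    (h2 : ActsSym M.e U g 1 τ') : τ = τ' := by
  classical
  funext i
  ext x : 1
  by_contra hne
  have hc : 2 < Fintype.card (Fin (2 ^ m + 1)) := by
    rw [Fintype.card_fin]
    have : 2 ^ 2 ≤ 2 ^ m := Nat.pow_le_pow_right (by norm_num) hm
    omega
  set q := (τ' i)⁻¹ (τ i x) with hq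
  have e1 : τ' i q = τ i x := by rw [hq]; simp
  have hqx : q ≠ x := by
    intro e
    apply hne
    rw [← e1, e]
  obtain ⟨p, hp⟩ : ∃ p, p ∉ ({x, q} : Finset (Fin (2 ^ m + 1))) := by
    by_contra hall
    push Not at hall
    have h3 : Fintype.card (Fin (2 ^ m + 1)) ≤ ({x, q} : Finset (Fin (2 ^ m + 1))).card := by
      rw [← Finset.card_univ]
      exact Finset.card_le_card fun y _ => hall y
    have h4 := Finset.card_le_two (a := x) (b := q)
    omega
  have hpx : p ≠ x := fun e => hp (by simp [e])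
  have hpq : p ≠ q := fun e => hp (by simp [e])
  obtain ⟨v, hv, ev⟩ := M.surj (Pi.single i (Pi.single x 1 + Pi.single p 1)) (by
    intro j
    by_cases hj : j = i
    · subst hj
      rw [Pi.single_eq_same]
      simp only [Pi.add_apply, Finset.sum_add_distrib, Finset.sum_pi_single', Finset.mem_univ,
        if_true]
      decide
    · rw [Pi.single_eq_of_ne hj]
      simp)
  have h3 := h1 v hv i x
  have h4 := h2 v hv i q
  rw [e1, h3, ev, Pi.single_eq_same, Pi.add_apply, Pi.add_apply, Pi.single_eq_same,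
    Pi.single_eq_of_ne hpx.symm, Pi.single_eq_of_ne hqx, Pi.single_eq_of_ne hpq.symm] at h4
  exact absurd h4 (by decide)

theorem sym_false {k m : ℕ} (hm : 2 ≤ m) (h : Bas T R) (M : SymK T R (zl T R) (cv T R) k m)
    (hA : A ≤ T) (hoff : Off (zl T R) A) {z : G} (hzl : z ∈ l) (hz : Mov T R z)
    (cov : ∀ v ∈ Y, ∃ u ∈ zl T R, ∃ c ∈ centralizer (A : Set G), v = u * c)
    (full : ∀ a ∈ A, a ∉ centralizer (Y : Set G) → ∀ z ∈ l, ∃ v ∈ Y, z = a * v * a⁻¹ * v⁻¹)
    (hne : ¬ A ≤ centralizer (Y : Set G)) (hQ : o2 R ≤ centralizer (Y : Set G)) : False := by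
  classical
  have hT := h.hm.syl
  have hTR : ∀ t ∈ T, t ∈ R := fun t ht => hT.1 ht
  obtain ⟨-, h2⟩ := M.off A hA hoff
  have UT : ∀ t ∈ T, ∀ v ∈ zl T R, t * v * t⁻¹ ∈ zl T R := fun t ht => h.Un t (hTR t ht)
  have key : ∀ t ∈ T, (∀ v ∈ zl T R, M.e (t * v * t⁻¹) = M.e v) → t ∈ o2 R := by
    intro t ht h0
    refine h.mem_o2 hz ht fun u hu => ?_
    rw [← M.ker _ (mul_mem (UT t ht u hu) (inv_mem hu)), e_div M.mul (UT t ht u hu) hu, h0 u hu,
      sub_self]
  -- a single transposition moves `Y`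
  have stepA : ∀ n : ℕ, ∀ a ∈ A, a ∉ centralizer (Y : Set G) →
      ∀ τ : Fin k → Equiv.Perm (Fin (2 ^ m + 1)), ActsSym M.e (zl T R) a 1 τ →
      (Finset.univ.filter fun p : Fin k × Fin (2 ^ m + 1) => τ p.1 p.2 ≠ p.2).card ≤ n →
      ∃ b ∈ A, b ∉ centralizer (Y : Set G) ∧ ∃ i x y, x ≠ y ∧
        ActsSym M.e (zl T R) b 1 (Function.update 1 i (Equiv.swap x y)) := by
    intro n
    induction n with
    | zero =>
      intro a ha haY τ hτ hn
      exfalso
      apply haY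
      apply hQ
      refine key a (hA ha) fun v hv => ?_
      funext i x
      have h3 : τ i x = x := by
        by_contra h3
        have h4 : (i, x) ∈ Finset.univ.filter fun p : Fin k × Fin (2 ^ m + 1) => τ p.1 p.2 ≠ p.2 := by
          simpa using h3
        have h5 := Finset.card_pos.2 ⟨_, h4⟩
        omega
      have h4 := hτ v hv i x
      rw [h3] at h4
      exact h4
    | succ n ih =>
      intro a ha haY τ hτ hn
      obtain ⟨τ', hτ', hprop⟩ := h2 a ha
      obtain rfl := sym_uniq hm M hτ' hτ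
      by_cases hex : ∃ i x, τ' i x ≠ x
      · obtain ⟨i, x, hx⟩ := hex
        obtain ⟨hxx, b, hb, hbs⟩ := hprop i x hx
        by_cases hbY : b ∈ centralizer (Y : Set G)
        · refine ih (b * a) (mul_mem hb ha) (fun h3 => haY ?_)
            (fun j => (Function.update 1 i (Equiv.swap x (τ' i x)) :
              Fin k → Equiv.Perm (Fin (2 ^ m + 1))) j * τ' j) ?_ ?_
          · have := mul_mem (inv_mem hbY) h3
            rwa [inv_mul_cancel_left] at this
          · intro v hv j y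
            have e1 : b * a * v * (b * a)⁻¹ = b * (a * v * a⁻¹) * b⁻¹ := by group
            rw [e1, Equiv.Perm.mul_apply, hbs _ (UT a (hA ha) v hv)]
            exact hτ' v hv j y
          · have hlt : (Finset.univ.filter fun p : Fin k × Fin (2 ^ m + 1) =>
                ((Function.update 1 i (Equiv.swap x (τ' i x)) :
                  Fin k → Equiv.Perm (Fin (2 ^ m + 1))) p.1 * τ' p.1) p.2 ≠ p.2).card <
                (Finset.univ.filter fun p : Fin k × Fin (2 ^ m + 1) => τ' p.1 p.2 ≠ p.2).card := by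
              apply Finset.card_lt_card
              rw [Finset.ssubset_iff_of_subset]
              · refine ⟨(i, x), by simpa using hx, fun hmem => ?_⟩
                refine (Finset.mem_filter.1 hmem).2 ?_
                rw [Equiv.Perm.mul_apply]
                show (Function.update 1 i (Equiv.swap x (τ' i x)) :
                  Fin k → Equiv.Perm (Fin (2 ^ m + 1))) i (τ' i x) = x
                rw [Function.update_self, Equiv.swap_apply_right]
              · rintro ⟨j, y⟩ hy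
                simp only [Finset.mem_filter, Finset.mem_univ, true_and] at hy ⊢
                intro hfix
                apply hy
                rw [Equiv.Perm.mul_apply, hfix]
                by_cases hj : j = i
                · subst hj
                  rw [Function.update_self]
                  apply Equiv.swap_apply_of_ne_of_ne
                  · rintro rfl
                    exact hx hfix
                  · rintro rfl
                    rw [hxx] at hfix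
                    exact hx hfix.symm
                · rw [Function.update_of_ne hj]
                  rfl
            omega
        · exact ⟨b, hb, hbY, i, x, τ' i x, hx.symm, hbs⟩
      · push Not at hex
        exfalso
        apply haY
        apply hQ
        refine key a (hA ha) fun v hv => ?_
        funext i x
        have h4 := hτ v hv i x
        rw [hex] at h4
        exact h4
  obtain ⟨a₀, ha₀, ha₀Y⟩ := SetLike.not_le_iff_exists.1 hne
  obtain ⟨τ₀, hτ₀, -⟩ := h2 a₀ ha₀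
  obtain ⟨b, hb, hbY, i, x, y, hxy, hbs⟩ := stepA _ a₀ ha₀ ha₀Y τ₀ hτ₀ le_rfl
  -- `z` is supported on `{x, y}` in the block `i`
  obtain ⟨v, hv, ezv⟩ := full b hb hbY z hzl
  obtain ⟨u, hu, c, hc, rfl⟩ := cov v hv
  have hezu : z = b * u * b⁻¹ * u⁻¹ := by
    have h3 : b * c = c * b := mem_centralizer_iff.1 hc b hb
    rw [ezv]
    calc b * (u * c) * b⁻¹ * (u * c)⁻¹ = b * u * (c * b⁻¹) * c⁻¹ * u⁻¹ := by group
      _ = b * u * (b⁻¹ * (b * c) * b⁻¹) * c⁻¹ * u⁻¹ := by group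
      _ = b * u * b⁻¹ * u⁻¹ := by rw [h3]; group
  have hez : ∀ j w, M.e z j w =
      M.e u j ((Function.update 1 i (Equiv.swap x y) : Fin k → Equiv.Perm (Fin (2 ^ m + 1))) j w) -
        M.e u j w := by
    intro j w
    rw [hezu, e_div M.mul (UT b (hA hb) u hu) hu, Pi.sub_apply, Pi.sub_apply]
    congr 1
    have h3 := hbs u hu j
      ((Function.update 1 i (Equiv.swap x y) : Fin k → Equiv.Perm (Fin (2 ^ m + 1))) j w)
    rw [← h3]
    have h4 : (Function.update 1 i (Equiv.swap x y) : Fin k → Equiv.Perm (Fin (2 ^ m + 1))) j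
        ((Function.update 1 i (Equiv.swap x y) : Fin k → Equiv.Perm (Fin (2 ^ m + 1))) j w) = w := by
      by_cases hj : j = i
      · subst hj
        rw [Function.update_self, Equiv.swap_apply_self]
      · rw [Function.update_of_ne hj]
        rfl
    rw [h4]
    rfl
  have hz0 : M.e z ≠ 0 := fun h0 => hz.not_cv hT ((M.ker z hz.mem).1 h0)
  have hsupp : ∀ j w, M.e z j w ≠ 0 → j = i ∧ (w = x ∨ w = y) := by
    intro j w hw
    rw [hez] at hw
    by_cases hj : j = i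
    · subst hj
      refine ⟨rfl, ?_⟩
      by_contra hc'
      push Not at hc'
      apply hw
      rw [Function.update_self, Equiv.swap_apply_of_ne_of_ne hc'.1 hc'.2, sub_self]
    · exfalso
      apply hw
      rw [Function.update_of_ne hj]
      exact sub_self _
  obtain ⟨w₀, hw₀⟩ : ∃ w, M.e z i w ≠ 0 := by
    by_contra hall
    push Not at hall
    apply hz0
    funext j w
    by_contra hne'
    obtain ⟨rfl, -⟩ := hsupp j w hne'
    exact hne' (hall w)
  -- one summand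
  have hone : ∀ j, j = i := by
    intro j
    obtain ⟨t, ht, σ, τ, hact, hσ⟩ := M.trans i j
    have h3 := hact z hz.mem i w₀
    rw [hz.cen t ht, mul_inv_cancel_right, hσ] at h3
    have h4 : M.e z j (τ i w₀) ≠ 0 := by rw [h3]; exact hw₀
    exact (hsupp _ _ h4).1
  -- a `2 ^ m`-cycle
  obtain ⟨p, hp1, hp0, hpf, hptr⟩ := Cfsg.Agent.Omega.SQ1.SymCyc.exists_cyc m (by omega)
  obtain ⟨g, hg, hgA, -⟩ := M.lift fun _ => p
  obtain ⟨c', hc', N, hN⟩ := Cfsg.Agent.Omega.SQ1.SymCyc.exists_pow g m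
  have hgpow : ∀ n : ℕ, ActsSym M.e (zl T R) (g ^ n) 1 fun _ => p ^ n := by
    intro n
    induction n with
    | zero => intro v hv i x; simp
    | succ n ih =>
      intro v hv i x
      have e1 : g ^ (n + 1) * v * (g ^ (n + 1))⁻¹ = g ^ n * (g * v * g⁻¹) * (g ^ n)⁻¹ := by
        rw [pow_succ]; group
      have h3 := ih _ (h.Un g hg v hv) i (p x)
      have h4 := hgA v hv i x
      rw [e1, pow_succ, Equiv.Perm.mul_apply]
      exact h3.trans h4
  have h1m : 1 % 2 ^ m = 1 := Nat.mod_eq_of_lt (Nat.one_lt_two_pow (by omega))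
  have hpc : p ^ c' = p := by
    rw [← Nat.div_add_mod c' (2 ^ m), hc', h1m, pow_add, pow_mul, hp1, one_pow, one_mul, pow_one]
  have hg' := hgpow c'
  rw [hpc] at hg'
  have hgR : g ^ c' ∈ R := pow_mem hg _
  have hp2 : IsPGroup 2 (zpowers (g ^ c')) := by
    rintro ⟨w, hw⟩
    obtain ⟨m', rfl⟩ := mem_zpowers_iff.1 hw
    refine ⟨N, Subtype.ext ?_⟩
    show ((g ^ c') ^ m') ^ 2 ^ N = 1
    rw [← zpow_natCast, ← zpow_mul, mul_comm, zpow_mul, zpow_natCast, hN, one_zpow]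
  obtain ⟨S, hS, hgS⟩ := exists_syl hp2 ((zpowers_le (H := R)).2 hgR)
  obtain ⟨k', hk', ek'⟩ := syl_conj hS hT
  have hkT : k' * g ^ c' * k'⁻¹ ∈ T := by
    rw [← ek']
    exact ⟨g ^ c', hgS (mem_zpowers _), rfl⟩
  have hfix := hz.cen _ hkT
  have hz' : k'⁻¹ * z * k'⁻¹⁻¹ ∈ zl T R := h.Un _ (inv_mem hk') z hz.mem
  set z' := k'⁻¹ * z * k'⁻¹⁻¹ with hz'd
  have hfix' : g ^ c' * z' * (g ^ c')⁻¹ = z' := by
    have e1 : g ^ c' * z' * (g ^ c')⁻¹ =
        k'⁻¹ * ((k' * g ^ c' * k'⁻¹) * z) * (k' * g ^ c' * k'⁻¹)⁻¹ * k' := by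
      rw [hz'd]; group
    rw [e1, hfix, hz'd]; group
  have hkz : k' * z' * k'⁻¹ = z := by rw [hz'd]; group
  obtain ⟨σ, τ, hact⟩ := M.perm k' hk'
  have hs1 : ∀ w, M.e z' i w = M.e z i (τ i w) := by
    intro w
    have h3 := hact z' hz' i w
    rw [hkz, hone (σ i)] at h3
    exact h3.symm
  have hs2 : ∀ w, M.e z' i (p w) = M.e z' i w := by
    intro w
    have h3 := hg' z' hz' i w
    rw [hfix'] at h3
    exact h3
  have hsub : ∀ w, M.e z' i w ≠ 0 → w ∈ ({(τ i)⁻¹ x, (τ i)⁻¹ y} : Finset (Fin (2 ^ m + 1))) := by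
    intro w hw
    rw [hs1] at hw
    rcases (hsupp _ _ hw).2 with e | e
    · rw [← e]; simp
    · rw [← e]; simp
  have hpn : ∀ (n : ℕ) (w), M.e z' i ((p ^ n) w) = M.e z' i w := by
    intro n
    induction n with
    | zero => intro w; simp
    | succ n ih => intro w; rw [pow_succ', Equiv.Perm.mul_apply, hs2, ih]
  -- a nonzero letter in the support
  obtain ⟨q, hq0, hq⟩ : ∃ q, q ≠ 0 ∧ M.e z' i q ≠ 0 := by
    by_contra hall
    push Not at hall
    have h3 := M.even z' hz' i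
    rw [Finset.sum_eq_single 0 (fun b _ hb => hall b hb) (by simp)] at h3
    have h4 : M.e z' i ((τ i)⁻¹ w₀) ≠ 0 := by
      rw [hs1]
      simpa using hw₀
    by_cases h5 : (τ i)⁻¹ w₀ = 0
    · rw [h5] at h4
      exact h4 h3
    · exact h4 (hall _ h5)
  have hbig : (Finset.univ.erase (0 : Fin (2 ^ m + 1))).card ≤
      ({(τ i)⁻¹ x, (τ i)⁻¹ y} : Finset (Fin (2 ^ m + 1))).card := by
    apply Finset.card_le_card
    intro w hw
    have hw0 : w ≠ 0 := (Finset.mem_erase.1 hw).1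
    obtain ⟨n, hn⟩ := hptr q w hq0 hw0
    apply hsub
    rw [← hn, hpn]
    exact hq
  rw [Finset.card_erase_of_mem (Finset.mem_univ _), Finset.card_univ, Fintype.card_fin] at hbig
  have h5 := Finset.card_le_two (a := (τ i)⁻¹ x) (b := (τ i)⁻¹ y)
  have h6 : 2 ^ 2 ≤ 2 ^ m := Nat.pow_le_pow_right (by norm_num) hm
  omega

/-- **Part F** (#27055 (6)). -/
theorem cT_le (hFF : FFThm.Stmt.{u}) {T R Y l A : Subgroup G} (hT : Syl T R) (hP : IsMinPar T R)
    (hc : R ⊓ centralizer (o2 R : Set G) ≤ o2 R) (hA : A ≤ T) (hoff : Off (zl T R) A)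
    (TY : T ≤ normalizer (Y : Set G)) (Tl : T ≤ normalizer (l : Set G)) (hl : l ≤ zl T R)
    (hmv : ¬ R ≤ centralizer ((l ⊓ zc T : Subgroup G) : Set G))
    (com : Y ≤ centralizer (zl T R : Set G))
    (cov : ∀ v ∈ Y, ∃ u ∈ zl T R, ∃ c ∈ centralizer (A : Set G), v = u * c)
    (inl : ∀ a ∈ A, ∀ v ∈ Y, a * v * a⁻¹ * v⁻¹ ∈ l)
    (full : ∀ a ∈ A, a ∉ centralizer (Y : Set G) → ∀ z ∈ l, ∃ v ∈ Y, z = a * v * a⁻¹ * v⁻¹)
    (full' : ∀ v ∈ Y, v ∉ l → ∀ z ∈ l, ∃ a ∈ A, z = a * v * a⁻¹ * v⁻¹)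
    (hne : ¬ A ≤ centralizer (Y : Set G)) (hQ : o2 R ≤ centralizer (Y : Set G)) :
    T ⊓ centralizer (Y : Set G) ≤ o2 R := by
  have h := Bas.of hT hP hc
  obtain ⟨r, hr, hrz⟩ := SetLike.not_le_iff_exists.1 hmv
  rw [mem_centralizer_iff] at hrz
  push Not at hrz
  obtain ⟨z, hz, hne'⟩ := hrz
  have hzl : z ∈ l := hz.1
  have hzM : Mov T R z := by
    refine ⟨hl hz.1, fun t ht => ?_, fun h0 => hne' (h0 r hr).symm⟩
    have := (ChoiceBase.mem_zc.1 hz.2).2.2 t ht
    exact this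
  obtain ⟨-, hC⟩ := hFF G T R hT hP hc ⟨A, hA.trans hT.1, hoff⟩
  rcases hC with ⟨F, iF, fF, cF, k, hk, ⟨M⟩⟩ | ⟨k, m, hk, hm, ⟨M⟩⟩
  · exact nat_le h M hA hoff TY hl hzl hzM cov inl full hne hQ
  · exact (sym_false hm h M hA hoff hzl hzM cov full hne hQ).elim

end Cfsg.Agent.Omega.NOThreeL.RWide.UniT.FF

end

section


/-!
# UNI_T: (Y1), (Y2), (Y3) of #27590

From the output of (X3) for a pure member `A` moving the block `j` (`X3`), from the exchange dichotomy (`Exc`) and `fixV`: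
`R` normalises `⨆ b, N b`.
-/

set_option autoImplicit false
set_option linter.unusedSectionVars false
set_option linter.unusedVariables false

namespace Cfsg.Agent.Omega.NOThreeL.RWide.UniT.YY

open Subgroup Cfsg Cfsg.Agent.Omega.MinPar
open Cfsg.Agent.ZN (zc o2 zl)
open Cfsg.Agent.ZN.ChoiceBase (cj AA mem_cj cj_mono cj_le_iff cj_cj cj_inv_cj cj_cj_inv card_cj cj_inf
  cj_centralizer cj_mem_AA cj_eq_of_mem_normalizer mem_normalizer_iff_cj isElementaryAbelian_cj)
open Cfsg.Agent.ZN.ChoiceSit (Syl o2_le_syl)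
open Cfsg.Agent.MinSimple.MinParabolic (IsMinPar)
open Cfsg.Agent.MinSimple.VModule (le_normalizer_zl zl_le le_normalizer_o2)
open Cfsg.Agent.Omega.FFThm (Off)

universe u v

variable {G : Type u} [Group G] {ι : Type v}

/-- The output of (X3). -/
structure X3 (T O R : Subgroup G) (N l : ι → Subgroup G) (j : ι) (A : Subgroup G) : Prop where
  mem : A ∈ AA O
  pure : ∀ c, c ≠ j → A ≤ centralizer (N c : Set G)
  nQ : ¬ A ≤ o2 R
  full : Full A (N j) (l j)
  cU : A ⊓ centralizer (zl T R : Set G) ≤ centralizer (N j : Set G)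
  cov : ∀ v ∈ N j, ∃ u ∈ zl T R, ∃ c ∈ centralizer (A : Set G), v = u * c
  lU : l j ≤ zl T R
  QN : o2 R ≤ centralizer (N j : Set G)

/-- The output of (EXC). -/
def Exc (T R : Subgroup G) (N l : ι → Subgroup G) (A : Subgroup G) (y : G) : Prop := ∀ b,
  (A ⊓ centralizer (zl T R : Set G) ≤ centralizer (cj y (N b) : Set G) →
    R ≤ normalizer ((N b ⊔ zl T R : Subgroup G) : Set G)) ∧
  (¬ A ⊓ centralizer (zl T R : Set G) ≤ centralizer (cj y (N b) : Set G) → R ≤ normalizer (l b : Set G))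

variable [Finite G] {T O R : Subgroup G} {N l E : ι → Subgroup G} {j : ι}

theorem card_Nl (h : Rts T O N l) {b : ι} {A : Subgroup G} (hf : Full A (N b) (l b)) :
    N b ⊓ centralizer (A : Set G) = l b := by
  apply le_antisymm
  · rintro v ⟨hv, hvA⟩
    by_contra hvl
    apply h.lne b
    rw [eq_bot_iff]
    intro z hz
    obtain ⟨a, ha, e⟩ := hf.onA v hv hvl z hz
    rw [mem_bot, ← e, mem_centralizer_iff.1 hvA a ha]
    group
  · exact le_inf (h.lN b) fun z hz => mem_centralizer_iff.2 fun a ha =>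
      (mem_centralizer_iff.1 (hf.cent ha) z hz).symm

/-! ### Elementary facts -/

section facts

variable (h : Fr T O R N l E j)

include h

theorem NT (b : ι) : N b ≤ T := (h.NO b).trans h.OT

theorem U_le {c : ι} (hc : c ≠ j) : zl T R ≤ E c := zl_le (h.ZE c hc) (h.RE c hc)

theorem UO : zl T R ≤ O := by
  obtain ⟨c, hc⟩ := h.ex
  exact (U_le h hc).trans (h.EO c hc)

theorem Ue : IsElementaryAbelian 2 (zl T R) := by
  obtain ⟨c, hc⟩ := h.ex
  exact eab_mono (h.eab c hc) (U_le h hc)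

theorem UN (b : ι) : zl T R ≤ centralizer (N b : Set G) := by
  by_cases hb : b = j
  · subst hb
    obtain ⟨c, hc⟩ := h.ex
    exact (U_le h hc).trans ((comA (h.eab c hc)).trans (centralizer_le (h.jE c hc)))
  · exact (U_le h hb).trans ((comA (h.eab b hb)).trans (centralizer_le (h.NE b hb)))

theorem QT : o2 R ≤ T := o2_le_syl h.syl

theorem finι : Finite ι := by
  have hinj : Function.Injective N := by
    intro a b e
    by_contra hab
    have h1 := h.dis a b hab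
    rw [e, inf_idem] at h1
    exact h.lne b (le_bot_iff.1 ((h.lN b).trans h1.le))
  exact Finite.of_injective N hinj

theorem Q_eq {t : G} : t ∈ T ⊓ centralizer ((⨆ b, N b : Subgroup G) : Set G) ↔
    t ∈ T ∧ ∀ b, t ∈ centralizer (N b : Set G) := by
  constructor
  · rintro ⟨h1, h2⟩
    exact ⟨h1, fun b => centralizer_le (le_iSup N b) h2⟩
  · rintro ⟨h1, h2⟩
    refine ⟨h1, ?_⟩
    have h3 : (⨆ b, N b) ≤ centralizer ({t} : Set G) := iSup_le fun b v hv =>
      mem_centralizer_singleton_iff.2 (mem_centralizer_iff.1 (h2 b) v hv)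
    exact mem_centralizer_iff.2 fun v hv => mem_centralizer_singleton_iff.1 (h3 hv)

/-- (F) -/
theorem cT (hFF : FFThm.Stmt.{u}) {A : Subgroup G} (x : X3 T O R N l j A) :
    T ⊓ centralizer (N j : Set G) ≤ o2 R := by
  have hAT : A ≤ T := x.mem.2.1.trans h.OT
  refine UniT.FF.cT_le hFF h.syl h.par h.cR hAT ?_ (h.TN j) (h.Tl j) x.lU ?_ ?_ x.cov x.full.inl ?_ ?_
    x.full.ne x.QN
  · refine ⟨x.mem.1, fun h1 => x.nQ ?_, thom x.mem (Ue h) (UO h)⟩
    rw [← h.UQ]
    exact le_inf hAT h1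
  · intro h1
    apply h.mv
    refine h1.trans (centralizer_le ?_)
    rintro z ⟨hz, hzT⟩
    refine ⟨hz, Cfsg.Agent.ZN.ChoiceBase.mem_zc.2 ⟨NT h j (h.lN j hz), ?_, fun t ht => ?_⟩⟩
    · rw [pow_two]; exact h.sq j z (h.lN j hz)
    · exact mem_centralizer_iff.1 hzT t ht
  · obtain ⟨c, hc⟩ := h.ex
    exact (h.jE c hc).trans ((comA (h.eab c hc)).trans (centralizer_le (U_le h hc)))
  · intro a ha han z hz
    obtain ⟨v, hv, e⟩ := x.full.onN a ha han z hz
    exact ⟨v, hv, e.symm⟩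
  · intro v hv hvl z hz
    obtain ⟨a, ha, e⟩ := x.full.onA v hv hvl z hz
    exact ⟨a, ha, e.symm⟩

end facts

/-! ### (Y1) -/

section main

variable (h : Fr T O R N l E j) {A : Subgroup G} (x : X3 T O R N l j A)
  (F : T ⊓ centralizer (N j : Set G) ≤ o2 R)

include h x F

theorem QRU : o2 R ≤ centralizer (zl T R : Set G) := by
  rw [← h.UQ]; exact inf_le_right

/-- `C_Y(A) ≤ Z_J` -/
theorem cYA : (N j ⊔ zl T R) ⊓ centralizer (A : Set G) ≤ ⨆ b, l b := by
  classical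
  have := finι h
  have hAT : A ≤ T := x.mem.2.1.trans h.OT
  rintro n ⟨hn, hnA⟩
  obtain ⟨c₀, hc₀⟩ := h.ex
  have hYE : N j ⊔ zl T R ≤ E c₀ := sup_le (h.jE c₀ hc₀) (U_le h hc₀)
  have hnE := hYE hn
  have hnT : n ∈ T := h.OT (h.EO c₀ hc₀ hnE)
  have hn2 : n ^ 2 = 1 := (h.eab c₀ hc₀).2 n hnE
  have hnN : ∀ b, n ∈ centralizer (N b : Set G) := fun b =>
    (sup_le (h.com j b) (UN h b) : N j ⊔ zl T R ≤ _) hn
  have hQ := (Q_eq h).2 ⟨hnT, hnN⟩
  have hln : (⨆ b, l b) ≤ ⨆ b, N b := iSup_mono h.lN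
  have hcomm : ∀ X : Subgroup G, X ≤ T → X ≤ centralizer (N j : Set G) → ∀ t ∈ X, t * n = n * t := by
    intro X hXT hXN t ht
    have h1 : X ≤ centralizer ((N j ⊔ zl T R : Subgroup G) : Set G) := by
      have h2 : N j ⊔ zl T R ≤ centralizer (X : Set G) := by
        refine sup_le (fun v hv => mem_centralizer_iff.2 fun t ht =>
          (mem_centralizer_iff.1 (hXN ht) v hv).symm) fun v hv => mem_centralizer_iff.2 fun t ht => ?_
        exact (mem_centralizer_iff.1 (QRU h x F (F ⟨hXT ht, hXN ht⟩)) v hv).symm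
      intro t ht
      exact mem_centralizer_iff.2 fun v hv => (mem_centralizer_iff.1 (h2 hv) t ht).symm
    exact (mem_centralizer_iff.1 (h1 ht) n hn).symm
  -- pure members which centralise `n`
  have hmem : ∀ b, ∃ A' ≤ T, Full A' (N b) (l b) ∧ (∀ c, c ≠ b → A' ≤ centralizer (N c : Set G)) ∧
      ∀ t ∈ A', t * n = n * t := by
    intro b
    by_cases hb : b = j
    · subst hb
      exact ⟨A, hAT, x.full, x.pure, fun t ht => mem_centralizer_iff.1 hnA t ht⟩
    · obtain ⟨A', hA', hA'b, hA'c⟩ := h.pure b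
      have hA'T : A' ≤ T := hA'.2.1.trans h.OT
      have hNe : IsElementaryAbelian 2 (N b) := eab_mono (h.eab b hb) (h.NE b hb)
      have h1 := (h.off b A' hA'T hA'.1 (thom hA' hNe (h.NO b))).resolve_left hA'b
      exact ⟨A', hA'T, h1, hA'c, hcomm A' hA'T (hA'c j (Ne.symm hb))⟩
  have key : ∀ s : Finset ι, ∀ t ∈ T, t ∈ centralizer ((⨆ b, l b : Subgroup G) : Set G) →
      (∀ b, b ∉ s → t ∈ centralizer (N b : Set G)) → t * n = n * t := by
    intro s
    induction s using Finset.induction_on with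
    | empty =>
      intro t ht htl htN
      have h1 : T ⊓ centralizer (N j : Set G) ≤ centralizer (N j : Set G) := inf_le_right
      exact hcomm _ inf_le_left h1 t ⟨ht, htN j (by simp)⟩
    | insert b s hb ih =>
      intro t ht htl htN
      obtain ⟨A', hA'T, hf, hpure, hn'⟩ := hmem b
      have htl' : ∀ c, t ∈ centralizer (l c : Set G) := fun c => centralizer_le (le_iSup l c) htl
      obtain ⟨a, ha, hat⟩ := h.rep b A' hA'T hf t ht (htl' b)
      have h1 : a⁻¹ * t * n = n * (a⁻¹ * t) := by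
        refine ih _ (mul_mem (inv_mem (hA'T ha)) ht) (mul_mem (inv_mem ?_) htl) fun c hc => ?_
        · have h2 : (⨆ b, l b) ≤ centralizer (A' : Set G) := by
            refine iSup_le fun c v hv => mem_centralizer_iff.2 fun a ha => ?_
            by_cases hcb : c = b
            · subst hcb
              exact (mem_centralizer_iff.1 (hf.cent ha) v hv).symm
            · exact (mem_centralizer_iff.1 (hpure c hcb ha) v (h.lN c hv)).symm
          exact mem_centralizer_iff.2 fun v hv => (mem_centralizer_iff.1 (h2 hv) a ha).symm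
        · by_cases hcb : c = b
          · rw [hcb]; exact hat
          · exact mul_mem (inv_mem (hpure c hcb ha)) (htN c (by simp [hcb, hc]))
      have h2 : Commute (a⁻¹ * t) n := h1
      have h3 : Commute a n := hn' a ha
      have h4 := h3.mul_left h2
      rwa [mul_inv_cancel_left] at h4
  refine h.I4 (Cfsg.Agent.ZN.ChoiceBase.mem_zc.2 ⟨⟨hnT, centralizer_le hln hQ.2⟩, hn2, ?_⟩)
  rintro t ⟨ht, htl⟩
  have : Fintype ι := Fintype.ofFinite ι
  exact key Finset.univ t ht htl (by simp)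

/-- `Y = N_j C_Y(A)` -/
theorem Y_eq : N j ⊔ ((N j ⊔ zl T R) ⊓ centralizer (A : Set G)) = N j ⊔ zl T R := by
  have hAT : A ≤ T := x.mem.2.1.trans h.OT
  obtain ⟨c₀, hc₀⟩ := h.ex
  have hYE : N j ⊔ zl T R ≤ E c₀ := sup_le (h.jE c₀ hc₀) (U_le h hc₀)
  have hYe := eab_mono (h.eab c₀ hc₀) hYE
  have hYO : N j ⊔ zl T R ≤ O := hYE.trans (h.EO c₀ hc₀)
  set Yh := N j ⊔ zl T R with hYh
  set C := Yh ⊓ centralizer (A : Set G) with hC
  have h1 := thom x.mem hYe hYO
  have h2 : A ⊓ centralizer (Yh : Set G) = A ⊓ centralizer (N j : Set G) := by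
    apply le_antisymm
    · exact inf_le_inf_left A (centralizer_le (show N j ≤ Yh from le_sup_left))
    · rintro a ⟨ha, haN⟩
      refine ⟨ha, ?_⟩
      have h3 : Yh ≤ centralizer ({a} : Set G) := by
        refine sup_le (fun v hv => mem_centralizer_singleton_iff.2 (mem_centralizer_iff.1 haN v hv))
          fun v hv => mem_centralizer_singleton_iff.2 ?_
        exact mem_centralizer_iff.1 (QRU h x F (F ⟨hAT ha, haN⟩)) v hv
      exact mem_centralizer_iff.2 fun v hv => mem_centralizer_singleton_iff.1 (h3 hv)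
  rw [h2, ← hC] at h1
  have h4 : N j ⊓ C = l j := by
    rw [hC, ← inf_assoc, inf_eq_left.2 (show N j ≤ Yh from le_sup_left), card_Nl h.toRts x.full]
  have h5 : C ≤ centralizer (N j : Set G) :=
    inf_le_left.trans ((comA hYe).trans (centralizer_le (show N j ≤ Yh from le_sup_left)))
  have h6 := Cfsg.Agent.PLocal.ElemAbSup.card_sup_mul_card_inf h5
  rw [h4, h.cardN j] at h6
  have hl0 : 0 < Nat.card (l j) := Nat.card_pos
  have h7 : Nat.card ↥(N j ⊔ C) = Nat.card (l j) * Nat.card C := by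
    apply Nat.eq_of_mul_eq_mul_right hl0
    rw [h6]; ring
  have ha0 : 0 < Nat.card ↥(A ⊓ centralizer (N j : Set G)) := Nat.card_pos
  have h8 : Nat.card Yh ≤ Nat.card (l j) * Nat.card C := by
    rw [x.full.cardA] at h1
    apply Nat.le_of_mul_le_mul_right _ ha0
    calc Nat.card Yh * Nat.card ↥(A ⊓ centralizer (N j : Set G)) ≤ _ := h1
      _ = Nat.card (l j) * Nat.card C * Nat.card ↥(A ⊓ centralizer (N j : Set G)) := by ring
  exact Subgroup.eq_of_le_of_card_ge (sup_le le_sup_left inf_le_left) (h7 ▸ h8)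

/-- (Y1) -/
theorem Y1 : zl T R ≤ N j ⊔ ⨆ b, l b := by
  have h1 : zl T R ≤ N j ⊔ zl T R := le_sup_right
  rw [← Y_eq h x F] at h1
  exact h1.trans (sup_le_sup_left (cYA h x F) _)

theorem U_le_V : zl T R ≤ ⨆ b, N b :=
  (Y1 h x F).trans (sup_le (le_iSup N j) (iSup_mono h.lN))

/-- the members `C_A(N c) N c` -/
theorem memc {c b : ι} (hc : c ≠ j) (hb : b ≠ j) {r : G} (hr : r ∈ R) :
    ∀ a ∈ cj r (N c), ∀ v ∈ N b, a * v * a⁻¹ * v⁻¹ ∈ l b := by
  obtain ⟨A', hA', hA'b, hA'c⟩ := h.pure c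
  have hA'T : A' ≤ T := hA'.2.1.trans h.OT
  have hNe : ∀ b, b ≠ j → IsElementaryAbelian 2 (N b) := fun b hb => eab_mono (h.eab b hb) (h.NE b hb)
  have hf := (h.off c A' hA'T hA'.1 (thom hA' (hNe c hc) (h.NO c))).resolve_left hA'b
  have hM : (A' ⊓ centralizer (N c : Set G)) ⊔ N c ∈ AA O := by
    refine swap_mem hA' (hNe c hc) (h.NO c) ?_
    rw [card_Nl h.toRts hf, hf.cardA, h.cardN c]
    apply le_of_eq
    ring
  set M := (A' ⊓ centralizer (N c : Set G)) ⊔ N c with hMd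
  have hMT : M ≤ T := hM.2.1.trans h.OT
  have hMN : M ≤ centralizer (N j : Set G) :=
    sup_le (inf_le_left.trans (hA'c j (Ne.symm hc))) (h.com c j)
  have hMQ : M ≤ o2 R := (le_inf hMT hMN).trans F
  have hMr : cj r M ≤ T := by
    have h1 := cj_mono r hMQ
    rw [cj_eq_of_mem_normalizer (le_normalizer_o2 R hr)] at h1
    exact h1.trans (QT h)
  have hNr : N b ≤ cj r O := by
    have h1 := cj_mono r (h.EO b hb)
    rw [cj_eq_of_mem_normalizer (h.RE b hb hr)] at h1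
    exact (h.NE b hb).trans h1
  have h2 := thom (cj_mem_AA r hM) (hNe b hb) hNr
  have h3 : cj r (N c) ≤ cj r M := cj_mono r le_sup_right
  rcases h.off b _ hMr (isElementaryAbelian_cj r hM.1) h2 with h4 | h4
  · intro a ha v hv
    rw [← mem_centralizer_iff.1 (h4 (h3 ha)) v hv]
    have e : v * a * a⁻¹ * v⁻¹ = 1 := by group
    rw [e]
    exact one_mem _
  · intro a ha v hv
    exact h4.inl a (h3 ha) v hv

/-- (Y2) -/
theorem Y2 {y : G} (hy : y ∈ R) (e : Exc T R N l A y)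
    (fixV : ∀ c, c ≠ j → ∀ X : Subgroup G, X ≤ E c →
      X ≤ T ⊓ centralizer ((⨆ b, N b : Subgroup G) : Set G) →
      (∀ x ∈ X, ∀ g ∈ T ⊓ centralizer ((⨆ b, N b : Subgroup G) : Set G), x * g * x⁻¹ * g⁻¹ ∈ l c) →
      T ⊓ centralizer ((⨆ b, N b : Subgroup G) : Set G) ≤ centralizer (X : Set G))
    {c : ι} (hc : c ≠ j) : R ≤ normalizer ((N c ⊔ zl T R : Subgroup G) : Set G) := by
  by_contra hcon
  have hA0 : ¬ A ⊓ centralizer (zl T R : Set G) ≤ centralizer (cj y (N c) : Set G) :=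
    fun h1 => hcon ((e c).1 h1)
  have hRl := (e c).2 hA0
  have hAT : A ≤ T := x.mem.2.1.trans h.OT
  set W := cj y (N c) with hW
  have hWE : W ≤ E c := by
    have h1 := cj_mono y (h.NE c hc)
    rwa [cj_eq_of_mem_normalizer (h.RE c hc hy)] at h1
  have hWT : W ≤ T := hWE.trans ((h.EO c hc).trans h.OT)
  have hEc := comA (h.eab c hc)
  have hWN : ∀ b, W ≤ centralizer (N b : Set G) := by
    intro b
    by_cases hbj : b = j
    · subst hbj
      exact hWE.trans (hEc.trans (centralizer_le (h.jE c hc)))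
    by_cases hbc : b = c
    · subst hbc
      exact hWE.trans (hEc.trans (centralizer_le (h.NE b hc)))
    intro a ha
    refine mem_centralizer_iff.2 fun v hv => ?_
    have h1 := memc h x F hc hbj hy a ha v hv
    have h2 : a * v * a⁻¹ * v⁻¹ ∈ l c := by
      have hn : y⁻¹ * a * y ∈ N c := mem_cj.1 ha
      have hv' : y⁻¹ * v * y ∈ cj y⁻¹ (N b) := by
        rw [mem_cj]
        have e1 : y⁻¹⁻¹ * (y⁻¹ * v * y) * y⁻¹ = v := by group
        rw [e1]; exact hv
      have h3 := inv_mem (memc h x F hbj hc (inv_mem hy) _ hv' _ hn)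
      have h4 := (mem_normalizer_iff.1 (hRl hy) _).1 h3
      have e2 : y * (y⁻¹ * v * y * (y⁻¹ * a * y) * (y⁻¹ * v * y)⁻¹ * (y⁻¹ * a * y)⁻¹)⁻¹ * y⁻¹ =
          a * v * a⁻¹ * v⁻¹ := by group
      rwa [e2] at h4
    have h3 : a * v * a⁻¹ * v⁻¹ = 1 := by
      have h4 : a * v * a⁻¹ * v⁻¹ ∈ N b ⊓ N c := ⟨h.lN b h1, h.lN c h2⟩
      rw [h.dis b c hbc] at h4
      exact mem_bot.1 h4
    have h4 : a * v = v * a := by
      calc a * v = a * v * a⁻¹ * v⁻¹ * (v * a) := by group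
        _ = v * a := by rw [h3, one_mul]
    exact h4.symm
  have hWQ : W ≤ T ⊓ centralizer ((⨆ b, N b : Subgroup G) : Set G) := fun a ha =>
    (Q_eq h).2 ⟨hWT ha, fun b => hWN b ha⟩
  have hfix := fixV c hc W hWE hWQ (by
    intro w hw g hg
    have hg2 := (Q_eq h).1 hg
    have hgR : g ∈ o2 R := F ⟨hg2.1, hg2.2 j⟩
    have hg' : y⁻¹ * g * y ∈ o2 R := by
      have h1 := (mem_normalizer_iff.1 (le_normalizer_o2 R (inv_mem hy)) g).1 hgR
      rwa [inv_inv] at h1
    have hn : y⁻¹ * w * y ∈ N c := mem_cj.1 hw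
    have hcl : y⁻¹ * g * y ∈ centralizer (l c : Set G) := by
      refine mem_centralizer_iff.2 fun z hz => ?_
      have h1 := (mem_normalizer_iff.1 (hRl hy) z).1 hz
      have h2 := mem_centralizer_iff.1 (hg2.2 c) _ (h.lN c h1)
      calc z * (y⁻¹ * g * y) = y⁻¹ * (y * z * y⁻¹ * g) * y := by group
        _ = y⁻¹ * (g * (y * z * y⁻¹)) * y := by rw [h2]
        _ = y⁻¹ * g * y * z := by group
    have h3 := inv_mem ((h.rt c _ (QT h hg') hcl).1 _ hn)
    have h4 := (mem_normalizer_iff.1 (hRl hy) _).1 h3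
    have e2 : y * (y⁻¹ * g * y * (y⁻¹ * w * y) * (y⁻¹ * g * y)⁻¹ * (y⁻¹ * w * y)⁻¹)⁻¹ * y⁻¹ =
        w * g * w⁻¹ * g⁻¹ := by group
    rwa [e2] at h4)
  apply hA0
  refine le_trans ?_ hfix
  intro a ha
  refine (Q_eq h).2 ⟨hAT ha.1, fun b => ?_⟩
  by_cases hb : b = j
  · subst hb
    exact x.cU ha
  · exact x.pure b hb ha.1

/-- (Y3) -/
theorem Y3 {y : G} (hy : y ∈ R) (e : Exc T R N l A y)
    (fixV : ∀ c, c ≠ j → ∀ X : Subgroup G, X ≤ E c →
      X ≤ T ⊓ centralizer ((⨆ b, N b : Subgroup G) : Set G) →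
      (∀ x ∈ X, ∀ g ∈ T ⊓ centralizer ((⨆ b, N b : Subgroup G) : Set G), x * g * x⁻¹ * g⁻¹ ∈ l c) →
      T ⊓ centralizer ((⨆ b, N b : Subgroup G) : Set G) ≤ centralizer (X : Set G)) :
    R ≤ normalizer ((⨆ b, N b : Subgroup G) : Set G) := by
  have hall : ∀ b, R ≤ normalizer ((N b ⊔ zl T R : Subgroup G) : Set G) := by
    intro b
    by_cases hb : b = j
    · subst hb
      apply (e b).1
      have h1 : A ⊓ centralizer (zl T R : Set G) ≤ o2 R := by
        rw [← h.UQ]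
        exact inf_le_inf_right _ (x.mem.2.1.trans h.OT)
      have h2 := cj_mono y x.QN
      rw [cj_eq_of_mem_normalizer (le_normalizer_o2 R hy), cj_centralizer] at h2
      exact h1.trans h2
    · exact Y2 h x F hy e fixV hb
  intro g hg
  rw [mem_normalizer_iff_cj]
  have h1 : (⨆ b, N b) = ⨆ b, (N b ⊔ zl T R) := by
    apply le_antisymm
    · exact iSup_mono fun b => le_sup_left
    · exact iSup_le fun b => sup_le (le_iSup N b) (U_le_V h x F)
  rw [h1]
  show (⨆ b, (N b ⊔ zl T R)).map _ = _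
  rw [Subgroup.map_iSup]
  exact iSup_congr fun b => mem_normalizer_iff_cj.1 (hall b hg)

end main

/-- **(Y)**: the end of the active case. -/
theorem main (hFF : FFThm.Stmt.{u}) (h : Fr T O R N l E j) {A : Subgroup G} (x : X3 T O R N l j A)
    {y : G} (hy : y ∈ R) (e : Exc T R N l A y)
    (fixV : ∀ c, c ≠ j → ∀ X : Subgroup G, X ≤ E c →
      X ≤ T ⊓ centralizer ((⨆ b, N b : Subgroup G) : Set G) →
      (∀ x ∈ X, ∀ g ∈ T ⊓ centralizer ((⨆ b, N b : Subgroup G) : Set G), x * g * x⁻¹ * g⁻¹ ∈ l c) →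
      T ⊓ centralizer ((⨆ b, N b : Subgroup G) : Set G) ≤ centralizer (X : Set G)) :
    R ≤ normalizer ((⨆ b, N b : Subgroup G) : Set G) :=
  Y3 h x (cT h hFF x) hy e fixV

end Cfsg.Agent.Omega.NOThreeL.RWide.UniT.YY

end

section


/-!
# UNI_T: LEMMA FIX for one element (helper860 #27010 (7), helper528 #27296 (B2), helper902)

`c ≠ j`, `X ≤ E c`, `X ≤ Q = C_T(∏ N b)`, `[X, Q] ≤ l c` ⟹ `[X, Q] = 1`.

* `quot_le`, `quot_card` : counting cosets;
* **`Fr.fixX`** (the literal `fixV` of #27590, without `X ≤ Q`).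
-/

set_option autoImplicit false
set_option linter.unusedSectionVars false

namespace Cfsg.Agent.Omega.NOThreeL.RWide.UniT

open Subgroup Cfsg Cfsg.Agent.Omega.MinPar
open Cfsg.Agent.ZN (zc o2 zl)
open Cfsg.Agent.ZN.ChoiceBase (cj AA mem_cj cj_mono cj_eq_of_mem_normalizer)

universe u v

variable {G : Type u} [Group G] {ι : Type v}

namespace FixV

/-- `F N = F ⊔ N` -/
theorem dec {F N : Subgroup G} (h : N ≤ normalizer (F : Set G)) {x : G} (hx : x ∈ F ⊔ N) :
    ∃ f ∈ F, ∃ n ∈ N, x = f * n := by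
  have key : ∀ n ∈ N, ∀ f ∈ F, n * f * n⁻¹ ∈ F := fun n hn f hf => (mem_normalizer_iff.1 (h hn) f).1 hf
  let K : Subgroup G :=
    { carrier := {x | ∃ f ∈ F, ∃ n ∈ N, x = f * n}
      one_mem' := ⟨1, one_mem F, 1, one_mem N, by simp⟩
      mul_mem' := by
        rintro _ _ ⟨f, hf, n, hn, rfl⟩ ⟨f', hf', n', hn', rfl⟩
        exact ⟨f * (n * f' * n⁻¹), mul_mem hf (key n hn f' hf'), n * n', mul_mem hn hn', by group⟩
      inv_mem' := by
        rintro _ ⟨f, hf, n, hn, rfl⟩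
        exact ⟨n⁻¹ * f⁻¹ * n⁻¹⁻¹, key _ (inv_mem hn) _ (inv_mem hf), n⁻¹, inv_mem hn, by group⟩ }
  have h1 : F ⊔ N ≤ K := sup_le (fun f hf => ⟨f, hf, 1, one_mem N, by simp⟩) fun n hn => ⟨1, one_mem F, n, hn, by simp⟩
  exact h1 hx

/-- `|A| = |A / A₀| |A₀|` -/
theorem quot_card {A A0 : Subgroup G} (h : A0 ≤ A) :
    Nat.card A = Nat.card (A ⧸ A0.subgroupOf A) * Nat.card A0 := by
  have h1 := Subgroup.card_eq_card_quotient_mul_card_subgroup (A0.subgroupOf A)
  rwa [Nat.card_congr (Subgroup.subgroupOfEquivOfLe h).toEquiv] at h1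

/-- `|A / A₀| ≤ |S|` from a map to `S` which separates the cosets -/
theorem quot_le [Finite G] {A A0 S : Subgroup G} (f : G → G) (hf : ∀ a ∈ A, f a ∈ S)
    (hi : ∀ a ∈ A, ∀ b ∈ A, f a = f b → a⁻¹ * b ∈ A0) : Nat.card (A ⧸ A0.subgroupOf A) ≤ Nat.card S := by
  classical
  refine Nat.card_le_card_of_injective
    (fun τ : A ⧸ A0.subgroupOf A => (⟨f (τ.out : A), hf _ (τ.out : A).2⟩ : S)) ?_
  intro τ σ h
  have h1 : f (τ.out : A) = f (σ.out : A) := congrArg Subtype.val h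
  have h2 := hi _ (τ.out : A).2 _ (σ.out : A).2 h1
  have h3 : ((τ.out : A) : A ⧸ A0.subgroupOf A) = ((σ.out : A) : A ⧸ A0.subgroupOf A) := by
    rw [QuotientGroup.eq, mem_subgroupOf]
    exact h2
  rwa [QuotientGroup.out_eq', QuotientGroup.out_eq'] at h3

/-- `|A / A₀| < |Y / M|` from a map which separates the cosets and misses the trivial coset -/
theorem quot_lt [Finite G] {A A0 Y M : Subgroup G} (f : G → G) (hf : ∀ a ∈ A, f a ∈ Y)
    (hi : ∀ a ∈ A, ∀ b ∈ A, (f a)⁻¹ * f b ∈ M → a⁻¹ * b ∈ A0) (h0 : ∀ a ∈ A, f a ∉ M) :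
    Nat.card (A ⧸ A0.subgroupOf A) < Nat.card (Y ⧸ M.subgroupOf Y) := by
  classical
  let φ : A ⧸ A0.subgroupOf A → Y ⧸ M.subgroupOf Y := fun τ => ((⟨f (τ.out : A), hf _ (τ.out : A).2⟩ : Y) : _)
  have hφ : Function.Injective φ := by
    intro τ σ h
    have h1 : (f (τ.out : A))⁻¹ * f (σ.out : A) ∈ M := by
      have h2 := QuotientGroup.eq.1 h
      rw [mem_subgroupOf] at h2
      exact h2
    have h2 := hi _ (τ.out : A).2 _ (σ.out : A).2 h1
    have h3 : ((τ.out : A) : A ⧸ A0.subgroupOf A) = ((σ.out : A) : A ⧸ A0.subgroupOf A) := by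
      rw [QuotientGroup.eq, mem_subgroupOf]
      exact h2
    rwa [QuotientGroup.out_eq', QuotientGroup.out_eq'] at h3
  have : Fintype (A ⧸ A0.subgroupOf A) := Fintype.ofFinite _
  have : Fintype (Y ⧸ M.subgroupOf Y) := Fintype.ofFinite _
  rw [Nat.card_eq_fintype_card, Nat.card_eq_fintype_card]
  refine Fintype.card_lt_of_injective_of_notMem φ hφ (b := ((1 : Y) : Y ⧸ M.subgroupOf Y)) ?_
  rintro ⟨τ, hτ⟩
  apply h0 _ (τ.out : A).2
  have h2 := QuotientGroup.eq.1 hτ.symm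
  rw [mem_subgroupOf] at h2
  simpa using h2

end FixV

namespace Fr

variable [Finite G] {T O R : Subgroup G} {N l E : ι → Subgroup G} {j : ι}

open FixV

/-- **LEMMA FIX** -/
theorem fixX (h : Fr T O R N l E j) {c : ι} (hc : c ≠ j) {X : Subgroup G} (hX : X ≤ E c)
    (hl : ∀ x ∈ X, ∀ g ∈ T ⊓ centralizer ((⨆ b, N b : Subgroup G) : Set G), x * g * x⁻¹ * g⁻¹ ∈ l c) :
    T ⊓ centralizer ((⨆ b, N b : Subgroup G) : Set G) ≤ centralizer (X : Set G) := by
  classical
  set Q : Subgroup G := T ⊓ centralizer ((⨆ b, N b : Subgroup G) : Set G) with hQ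
  obtain ⟨m, mE, mN, mb, mQ, ml⟩ := h.lam c hc
  obtain ⟨A, hA, hAc, hAb⟩ := h.pure c
  have hAO : A ≤ O := hA.2.1
  have hAT : A ≤ T := hAO.trans h.OT
  have hAR : A ≤ R := hAT.trans h.syl.1
  have hcN : N c ≤ E c := h.NE c hc
  have EO : E c ≤ O := h.EO c hc
  have eE := h.eab c hc
  have ecom : ∀ x ∈ E c, ∀ y ∈ E c, x * y = y * x := fun x hx y hy =>
    mem_centralizer_iff.1 (comA eE hy) x hx
  have Acom : ∀ a ∈ A, ∀ b ∈ A, a * b = b * a := fun a ha b hb =>
    mem_centralizer_iff.1 (comA hA.1 hb) a ha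
  -- `A` is full on `N c`
  have hFull : Full A (N c) (l c) := by
    refine (h.off c A hAT hA.1 ?_).resolve_left hAc
    exact thom hA (eab_mono eE hcN) (h.NO c)
  set A0 : Subgroup G := A ⊓ centralizer (N c : Set G) with hA0
  have A0A : A0 ≤ A := inf_le_left
  have mA0 : ∀ {a : G}, a ∈ A0 ↔ a ∈ A ∧ ∀ n ∈ N c, n * a = a * n := by
    intro a
    rw [hA0, mem_inf, mem_centralizer_iff]
    exact Iff.rfl
  have A0Q : A0 ≤ Q := by
    refine le_inf (A0A.trans hAT) ?_
    have h1 : (⨆ b, N b) ≤ centralizer (A0 : Set G) := by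
      refine iSup_le fun b => ?_
      by_cases hb : b = c
      · subst hb
        exact NoFF.Basic.comm_symm inf_le_right
      · exact NoFF.Basic.comm_symm (A0A.trans (hAb b hb))
    exact NoFF.Basic.comm_symm h1
  -- `C_(N c)(A) ≤ l c`
  have cNA : N c ⊓ centralizer (A : Set G) ≤ l c := by
    intro v hv
    by_contra hvl
    obtain ⟨z, hz, hz1⟩ : ∃ z ∈ l c, z ≠ 1 := by
      by_contra hcon
      push Not at hcon
      exact h.lne c (by rw [eq_bot_iff]; intro x hx; exact mem_bot.2 (hcon x hx))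
    obtain ⟨a, ha, e1⟩ := hFull.onA v hv.1 hvl z hz
    apply hz1
    rw [← e1, mem_centralizer_iff.1 hv.2 a ha, mul_inv_cancel_right, mul_inv_cancel]
  have hqc := quot_card A0A
  set q : ℕ := Nat.card (A ⧸ A0.subgroupOf A) with hq
  have hql : q = Nat.card (l c) := by
    have h1 := hFull.cardA
    rw [← hA0, hqc, mul_comm] at h1
    exact Nat.eq_of_mul_eq_mul_left Nat.card_pos h1
  -- `D = A₀ N c ∈ AA(O)`
  have hD : A0 ⊔ N c ∈ AA O := by
    refine swap_mem hA (eab_mono eE hcN) (h.NO c) ?_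
    calc Nat.card A * Nat.card ↥(N c ⊓ centralizer (A : Set G)) ≤ Nat.card A * Nat.card (l c) :=
          Nat.mul_le_mul_left _ (Subgroup.card_le_of_le cNA)
      _ = Nat.card (N c) * Nat.card A0 := by rw [hqc, hql, h.cardN c]; ring
  -- the element `m`
  have mQ' : ∀ g ∈ Q, m⁻¹ * g * m ∈ Q := fun g hg => by
    have h1 := (mem_normalizer_iff.1 (inv_mem mQ) g).1 hg
    rwa [inv_inv] at h1
  have L'N : cj m (l c) ≤ N c := by
    have h1 := cj_mono m (h.lN c)
    rwa [cj_eq_of_mem_normalizer mN] at h1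
  have hAEn : ∀ a ∈ A, ∀ x ∈ E c, a * x * a⁻¹ ∈ E c := fun a ha x hx =>
    (mem_normalizer_iff.1 (h.RE c hc (hAR ha)) x).1 hx
  have hAQn : ∀ a ∈ A, ∀ g ∈ Q, a * g * a⁻¹ ∈ Q := by
    intro a ha g hg
    refine mem_inf.2 ⟨T.mul_mem (T.mul_mem (hAT ha) hg.1) (T.inv_mem (hAT ha)), ?_⟩
    have h1 : (⨆ b, N b) ≤ centralizer ({a * g * a⁻¹} : Set G) := by
      refine iSup_le fun b n hn => ?_
      rw [mem_centralizer_singleton_iff]
      have h2 : a⁻¹ * n * a ∈ N b := by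
        have h3 := (mem_normalizer_iff.1 (inv_mem (h.TN b (hAT ha))) n).1 hn
        rwa [inv_inv] at h3
      have h3 := mem_centralizer_iff.1 hg.2 _ (le_iSup N b h2)
      calc n * (a * g * a⁻¹) = a * (a⁻¹ * n * a * g) * a⁻¹ := by group
        _ = a * (g * (a⁻¹ * n * a)) * a⁻¹ := by rw [h3]
        _ = a * g * a⁻¹ * n := by group
    rw [mem_centralizer_iff]
    exact fun x hx => mem_centralizer_singleton_iff.1 (h1 hx)
  have hQN : ∀ g ∈ Q, ∀ n ∈ N c, n * g = g * n := fun g hg n hn =>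
    mem_centralizer_iff.1 hg.2 n (le_iSup N c hn)
  -- the elements `v` of `X^m`
  have main : ∀ v ∈ E c, (∀ g ∈ Q, v * g * v⁻¹ * g⁻¹ ∈ cj m (l c)) → ∀ g ∈ Q, v * g * v⁻¹ * g⁻¹ = 1 := by
    intro v hv hvQ
    -- `Y = ⟨v ^ A⟩`
    set Y : Subgroup G := ⨆ a : A, zpowers ((a : G) * v * (a : G)⁻¹) with hY
    have vaY : ∀ a ∈ A, a * v * a⁻¹ ∈ Y := fun a ha =>
      (le_iSup (fun a : A => zpowers ((a : G) * v * (a : G)⁻¹)) ⟨a, ha⟩) (mem_zpowers _)
    have vY : v ∈ Y := by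
      have h1 := vaY 1 (one_mem _)
      simpa using h1
    have YE : Y ≤ E c := iSup_le fun a => zpowers_le.2 (hAEn a a.2 v hv)
    have Yle : ∀ U : Subgroup G, (∀ a ∈ A, a * v * a⁻¹ ∈ U) → Y ≤ U := fun U hU =>
      iSup_le fun a => zpowers_le.2 (hU a a.2)
    -- elements of `A` centralising `v` centralise `Y`
    have centY : ∀ a ∈ A, v * a = a * v → Y ≤ centralizer ({a} : Set G) := by
      intro a ha hva
      refine Yle _ fun b hb => ?_
      rw [mem_centralizer_singleton_iff]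
      have h1 : b⁻¹ * a = a * b⁻¹ := Acom _ (inv_mem hb) _ ha
      calc b * v * b⁻¹ * a = b * v * (b⁻¹ * a) := by group
        _ = b * (v * a) * b⁻¹ := by rw [h1]; group
        _ = (b * a) * v * b⁻¹ := by rw [hva]; group
        _ = a * (b * v * b⁻¹) := by rw [Acom b hb a ha]; group
    -- `[v, g] ^ a`
    have step1 : ∀ a ∈ A0, v * a = a * v := by
      intro a0 ha0
      by_contra hne
      set w : G := v * a0 * v⁻¹ * a0⁻¹ with hw
      have hw1 : w ≠ 1 := by
        intro h1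
        apply hne
        have h2 : v * a0 = w * a0 * v := by rw [hw]; group
        rw [h2, h1, one_mul]
      have hwL : w ∈ cj m (l c) := hvQ a0 (A0Q ha0)
      have hwN : w ∈ N c := L'N hwL
      have hwl : w ∉ l c := fun h1 => hw1 (by
        have h2 : w ∈ cj m (l c) ⊓ l c := ⟨hwL, h1⟩
        rw [ml] at h2
        exact mem_bot.1 h2)
      -- `a₀` moves `v ^ a` by `w ^ a`
      have hva : ∀ a ∈ A, (a * v * a⁻¹) * a0 * (a * v * a⁻¹)⁻¹ * a0⁻¹ = a * w * a⁻¹ := by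
        intro a ha
        have h1 : a⁻¹ * a0 * a = a0 := by rw [Acom _ (inv_mem ha) _ (A0A ha0)]; group
        calc (a * v * a⁻¹) * a0 * (a * v * a⁻¹)⁻¹ * a0⁻¹
            = a * (v * (a⁻¹ * a0 * a) * v⁻¹ * (a⁻¹ * a0 * a)⁻¹) * a⁻¹ := by group
          _ = a * w * a⁻¹ := by rw [h1]
      -- `a` centralises `w` iff `a ∈ A₀`
      have haw : ∀ a ∈ A, a * w * a⁻¹ = w → a ∈ A0 := by
        intro a ha h1
        by_contra h2
        have h3 : a ∉ centralizer (N c : Set G) := fun h3 => h2 (mem_inf.2 ⟨ha, h3⟩)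
        -- `a` moves `N c`, so its fixed points lie in `l c`
        have hcard : ∀ z ∈ l c, ∃ v ∈ N c, a * v * a⁻¹ * v⁻¹ = z := hFull.onN a ha h3
        -- count : the map `N c / l c → l c`
        have h4 : Nat.card (N c) = Nat.card (N c ⧸ (l c).subgroupOf (N c)) * Nat.card (l c) := quot_card (h.lN c)
        rw [h.cardN c] at h4
        have h5 : Nat.card (l c) = Nat.card (N c ⧸ (l c).subgroupOf (N c)) :=
          Nat.eq_of_mul_eq_mul_right Nat.card_pos h4
        -- the fixed points of `a`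
        set M : Subgroup G := N c ⊓ centralizer ({a} : Set G) with hM
        have lM : l c ≤ M := by
          refine le_inf (h.lN c) fun x hx => ?_
          rw [mem_centralizer_singleton_iff]
          exact (mem_centralizer_iff.1 (hFull.cent ha) x hx)
        have h6 := quot_card (inf_le_left : M ≤ N c)
        -- surjection from `N c / M` onto `l c`
        have h7 : Nat.card (l c) ≤ Nat.card (N c ⧸ M.subgroupOf (N c)) := by
          choose! s hs hs' using hcard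
          let φ : l c → N c ⧸ M.subgroupOf (N c) := fun z => ((⟨s z, hs z z.2⟩ : N c) : _)
          refine Nat.card_le_card_of_injective φ ?_
          intro z z' hzz
          have h8 : (s z)⁻¹ * s z' ∈ M := by
            have h9 := QuotientGroup.eq.1 hzz
            rw [mem_subgroupOf] at h9
            exact h9
          have h9 : (s z)⁻¹ * s z' * a = a * ((s z)⁻¹ * s z') := mem_centralizer_singleton_iff.1 h8.2
          have e1 := hs' z z.2
          have e2 := hs' z' z'.2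
          apply Subtype.ext
          rw [← e1, ← e2]
          have h10 : s z' = s z * ((s z)⁻¹ * s z') := by group
          have h11 : a * ((s z)⁻¹ * s z') * a⁻¹ = (s z)⁻¹ * s z' := by rw [← h9]; group
          rw [h10]
          calc a * s z * a⁻¹ * (s z)⁻¹ = (a * s z * a⁻¹) * ((s z)⁻¹ * s z') * ((s z)⁻¹ * s z')⁻¹ * (s z)⁻¹ := by group
            _ = (a * s z * a⁻¹) * (a * ((s z)⁻¹ * s z') * a⁻¹) * ((s z)⁻¹ * s z')⁻¹ * (s z)⁻¹ := by rw [h11]
            _ = a * (s z * ((s z)⁻¹ * s z')) * a⁻¹ * (s z * ((s z)⁻¹ * s z'))⁻¹ := by group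
        have h8 : Nat.card M ≤ Nat.card (l c) := by
          have h9 : Nat.card (l c) * Nat.card M ≤ Nat.card (N c) := by
            rw [h6]
            exact Nat.mul_le_mul_right _ h7
          rw [h.cardN c] at h9
          exact Nat.le_of_mul_le_mul_left h9 Nat.card_pos
        have h9 : l c = M := Subgroup.eq_of_le_of_card_ge lM h8
        apply hwl
        rw [h9]
        refine mem_inf.2 ⟨hwN, ?_⟩
        rw [mem_centralizer_singleton_iff]
        calc w * a = (a * w * a⁻¹) * a := by rw [h1]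
          _ = a * w := by group
      have hmove : ∀ a ∈ A, ∀ b ∈ A, ((a * v * a⁻¹)⁻¹ * (b * v * b⁻¹)) ∈ centralizer (A0 : Set G) → a⁻¹ * b ∈ A0 := by
        intro a ha b hb hab
        refine haw _ (mul_mem (inv_mem ha) hb) ?_
        have h1 := mem_centralizer_iff.1 hab a0 ha0
        have h2 := hva a ha
        have h3 := hva b hb
        -- `x⁻¹ y` commutes with `a₀`, so `[x, a₀] = [y, a₀]`
        have h4 : (a * v * a⁻¹) * a0 * (a * v * a⁻¹)⁻¹ * a0⁻¹ = (b * v * b⁻¹) * a0 * (b * v * b⁻¹)⁻¹ * a0⁻¹ := by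
          set x := a * v * a⁻¹
          set y := b * v * b⁻¹
          have h5 : a0 = (x⁻¹ * y) * a0 * (x⁻¹ * y)⁻¹ := by rw [← h1]; group
          calc x * a0 * x⁻¹ * a0⁻¹ = x * ((x⁻¹ * y) * a0 * (x⁻¹ * y)⁻¹) * x⁻¹ * a0⁻¹ := by rw [← h5]
            _ = y * a0 * y⁻¹ * a0⁻¹ := by group
        rw [h2, h3] at h4
        calc a⁻¹ * b * w * (a⁻¹ * b)⁻¹ = a⁻¹ * (b * w * b⁻¹) * a := by group
          _ = a⁻¹ * (a * w * a⁻¹) * a := by rw [h4]
          _ = w := by group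
      -- the count
      set M : Subgroup G := Y ⊓ centralizer (A0 : Set G) with hM
      have c1 : q < Nat.card (Y ⧸ M.subgroupOf Y) := by
        refine quot_lt (fun a => a * v * a⁻¹) vaY (fun a ha b hb hab => hmove a ha b hb hab.2) ?_
        intro a ha h1
        have h2 := mem_centralizer_iff.1 h1.2 a0 ha0
        have h3 := hva a ha
        have h4 : (a * v * a⁻¹) * a0 * (a * v * a⁻¹)⁻¹ * a0⁻¹ = 1 := by rw [← h2]; group
        rw [h3] at h4
        apply hw1
        calc w = a⁻¹ * (a * w * a⁻¹) * a := by group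
          _ = 1 := by rw [h4]; group
      have c2 := quot_card (inf_le_left : M ≤ Y)
      -- Thompson for `D = A₀ N c`
      have c3 := thom hD (eab_mono eE YE) (YE.trans EO)
      have hNY : N c ≤ centralizer (Y : Set G) := fun n hn => mem_centralizer_iff.2 fun y hy =>
        ecom y (YE hy) n (hcN hn)
      set K : Subgroup G := (A0 ⊔ N c) ⊓ centralizer (Y : Set G) with hK
      have cm : A0 ≤ centralizer (N c : Set G) := inf_le_right
      have hdec : ∀ d ∈ A0 ⊔ N c, ∃ a ∈ A0, ∃ n ∈ N c, d = a * n := by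
        intro d hd
        have h1 : N c ≤ normalizer (A0 : Set G) :=
          (NoFF.Basic.comm_symm cm).trans (centralizer_le_normalizer _)
        exact dec h1 hd
      have c4 : Nat.card ((A0 ⊔ N c : Subgroup G) ⧸ K.subgroupOf (A0 ⊔ N c)) ≤ Nat.card (l c) := by
        have h1 : Nat.card (cj m (l c)) = Nat.card (l c) := Cfsg.Agent.ZN.ChoiceBase.card_cj m (l c)
        rw [← h1]
        refine quot_le (fun d => v * d * v⁻¹ * d⁻¹) ?_ ?_
        · intro d hd
          obtain ⟨a, ha, n, hn, rfl⟩ := hdec d hd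
          have h2 : v * n * v⁻¹ = n := by rw [ecom v hv n (hcN hn), mul_inv_cancel_right]
          have h3 : v * (a * n) * v⁻¹ * (a * n)⁻¹ = v * a * v⁻¹ * a⁻¹ := by
            calc v * (a * n) * v⁻¹ * (a * n)⁻¹ = v * a * v⁻¹ * (v * n * v⁻¹) * n⁻¹ * a⁻¹ := by group
              _ = v * a * v⁻¹ * a⁻¹ := by rw [h2]; group
          rw [h3]
          exact hvQ a (A0Q ha)
        · intro d hd d' hd' hdd
          have hmem := mul_mem (inv_mem hd) hd'
          refine mem_inf.2 ⟨hmem, ?_⟩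
          -- `d⁻¹ d'` commutes with `v`
          have h2 : v⁻¹ * (d⁻¹ * d') = (d⁻¹ * d') * v⁻¹ := by
            have hDc : d * d' = d' * d := mem_centralizer_iff.1 (comA hD.1 hd') d hd
            have h3 : v * d * v⁻¹ * d⁻¹ = v * d' * v⁻¹ * d'⁻¹ := hdd
            have h4 : d * v⁻¹ * d⁻¹ = d' * v⁻¹ * d'⁻¹ := by
              calc d * v⁻¹ * d⁻¹ = v⁻¹ * (v * d * v⁻¹ * d⁻¹) := by group
                _ = v⁻¹ * (v * d' * v⁻¹ * d'⁻¹) := by rw [h3]
                _ = d' * v⁻¹ * d'⁻¹ := by group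
            have h5 : d⁻¹ * d' = d' * d⁻¹ := by
              calc d⁻¹ * d' = d⁻¹ * (d' * d) * d⁻¹ := by group
                _ = d' * d⁻¹ := by rw [← hDc]; group
            calc v⁻¹ * (d⁻¹ * d') = d⁻¹ * (d * v⁻¹ * d⁻¹) * d' := by group
              _ = d⁻¹ * (d' * v⁻¹ * d'⁻¹) * d' := by rw [h4]
              _ = (d⁻¹ * d') * v⁻¹ := by group
          have h3 : v * (d⁻¹ * d') = (d⁻¹ * d') * v := by
            calc v * (d⁻¹ * d') = v * ((d⁻¹ * d') * v⁻¹) * v := by group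
              _ = v * (v⁻¹ * (d⁻¹ * d')) * v := by rw [h2]
              _ = (d⁻¹ * d') * v := by group
          obtain ⟨a, ha, n, hn, e1⟩ := hdec _ hmem
          rw [e1] at h3 ⊢
          have h4 : v * n = n * v := ecom v hv n (hcN hn)
          have h5 : v * a = a * v := by
            have h6 : v * a * n = a * v * n := by
              calc v * a * n = v * (a * n) := by group
                _ = a * (n * v) := by rw [h3]; group
                _ = a * v * n := by rw [← h4]; group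
            exact mul_right_cancel h6
          have h6 := centY a (A0A ha) h5
          refine mul_mem ?_ (hNY hn)
          rw [mem_centralizer_iff]
          exact fun y hy => mem_centralizer_singleton_iff.1 (h6 hy)
      have c5 := quot_card (inf_le_left : K ≤ A0 ⊔ N c)
      have c6 : Nat.card ↥(Y ⊓ centralizer ((A0 ⊔ N c : Subgroup G) : Set G)) ≤ Nat.card M :=
        Subgroup.card_le_of_le (inf_le_inf_left _ (centralizer_le (le_sup_left : A0 ≤ A0 ⊔ N c)))
      -- combine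
      have pK : 0 < Nat.card K := Nat.card_pos
      have pM : 0 < Nat.card M := Nat.card_pos
      have c7 : Nat.card Y * Nat.card K ≤ Nat.card (l c) * Nat.card K * Nat.card M := by
        calc Nat.card Y * Nat.card K ≤ Nat.card ↥(A0 ⊔ N c) *
              Nat.card ↥(Y ⊓ centralizer ((A0 ⊔ N c : Subgroup G) : Set G)) := c3
          _ ≤ (Nat.card (l c) * Nat.card K) * Nat.card M := by
            refine Nat.mul_le_mul ?_ c6
            rw [c5]
            exact Nat.mul_le_mul_right _ c4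
      have c8 : Nat.card Y ≤ Nat.card (l c) * Nat.card M := by
        apply Nat.le_of_mul_le_mul_right _ pK
        calc Nat.card Y * Nat.card K ≤ _ := c7
          _ = Nat.card (l c) * Nat.card M * Nat.card K := by ring
      rw [c2, ← hql] at c8
      exact absurd (Nat.le_of_mul_le_mul_right c8 pM) (not_le.2 c1)
    -- second half
    have A0Y : A0 ≤ centralizer (Y : Set G) := by
      intro a ha
      rw [mem_centralizer_iff]
      exact fun y hy => mem_centralizer_singleton_iff.1 (centY a (A0A ha) (step1 a ha) hy)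
    have Y2E : Y ⊔ N c ≤ E c := sup_le YE hcN
    have d1 := thom hA (eab_mono eE Y2E) (Y2E.trans EO)
    have d2 : A0 ≤ A ⊓ centralizer ((Y ⊔ N c : Subgroup G) : Set G) := by
      refine le_inf A0A (NoFF.Basic.comm_symm (sup_le (NoFF.Basic.comm_symm A0Y) (NoFF.Basic.comm_symm inf_le_right)))
    set C : Subgroup G := (Y ⊔ N c) ⊓ centralizer (A : Set G) with hC
    have p0 : 0 < Nat.card A0 := Nat.card_pos
    have d3 : Nat.card ↥(Y ⊔ N c) ≤ Nat.card (l c) * Nat.card C := by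
      apply Nat.le_of_mul_le_mul_right _ p0
      calc Nat.card ↥(Y ⊔ N c) * Nat.card A0
          ≤ Nat.card ↥(Y ⊔ N c) * Nat.card ↥(A ⊓ centralizer ((Y ⊔ N c : Subgroup G) : Set G)) :=
            Nat.mul_le_mul_left _ (Subgroup.card_le_of_le d2)
        _ ≤ Nat.card A * Nat.card C := d1
        _ = Nat.card (l c) * Nat.card C * Nat.card A0 := by rw [hqc, hql]; ring
    have d4 : Y ⊔ N c ≤ N c ⊔ C := by
      have hle : N c ⊔ C ≤ Y ⊔ N c := sup_le le_sup_right inf_le_left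
      have hcc : N c ≤ centralizer (C : Set G) := fun n hn => mem_centralizer_iff.2 fun y hy =>
        ecom y (Y2E hy.1) n (hcN hn)
      have e1 := Cfsg.Agent.PLocal.ElemAbSup.card_sup_mul_card_inf (A := C) (B := N c) hcc
      have e2 : C ⊓ N c ≤ l c := (le_inf inf_le_right (inf_le_left.trans inf_le_right)).trans cNA
      have e3 := Subgroup.card_le_of_le e2
      refine (Subgroup.eq_of_le_of_card_ge hle ?_).ge
      have pl : 0 < Nat.card (l c) := Nat.card_pos
      apply Nat.le_of_mul_le_mul_right _ pl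
      calc Nat.card ↥(Y ⊔ N c) * Nat.card (l c) ≤ Nat.card (l c) * Nat.card C * Nat.card (l c) :=
            Nat.mul_le_mul_right _ d3
        _ = Nat.card C * Nat.card (N c) := by rw [h.cardN c]; ring
        _ = Nat.card ↥(C ⊔ N c) * Nat.card ↥(C ⊓ N c) := e1.symm
        _ ≤ Nat.card ↥(N c ⊔ C) * Nat.card (l c) := by rw [sup_comm]; exact Nat.mul_le_mul_left _ e3
    -- `[v, A] ≤ l c`
    have d5 : ∀ a ∈ A, a * v * a⁻¹ * v⁻¹ ∈ l c := by
      intro a ha
      have h1 : v ∈ N c ⊔ C := d4 (mem_sup_left vY)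
      have hCc : C ≤ centralizer (N c : Set G) := fun y hy => mem_centralizer_iff.2 fun n hn =>
        ecom n (hcN hn) y (Y2E hy.1)
      obtain ⟨n, hn, y, hy, e0⟩ := dec (F := N c) (N := C) (hCc.trans (centralizer_le_normalizer _)) h1
      have h2 : a * y * a⁻¹ = y := by rw [mem_centralizer_iff.1 hy.2 a ha, mul_inv_cancel_right]
      have h3 : a * (n * y) * a⁻¹ * (n * y)⁻¹ = a * n * a⁻¹ * n⁻¹ := by
        calc a * (n * y) * a⁻¹ * (n * y)⁻¹ = (a * n * a⁻¹) * (a * y * a⁻¹) * y⁻¹ * n⁻¹ := by group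
          _ = a * n * a⁻¹ * n⁻¹ := by rw [h2]; group
      rw [e0, h3]
      exact hFull.inl a ha n hn
    intro g hg
    set w : G := v * g * v⁻¹ * g⁻¹ with hw
    have hwL : w ∈ cj m (l c) := hvQ g hg
    have hwN : w ∈ N c := L'N hwL
    have hwA : w ∈ centralizer (A : Set G) := by
      rw [mem_centralizer_iff]
      intro a ha
      -- `a w a⁻¹ = [v, a g a⁻¹]`
      have hg' := hAQn a ha g hg
      set g' : G := a * g * a⁻¹ with hg'e
      set z : G := a * v * a⁻¹ * v⁻¹ with hz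
      have hzl : z ∈ l c := d5 a ha
      have hzN : z ∈ N c := h.lN c hzl
      have e1 : a * w * a⁻¹ = z * (v * g' * v⁻¹ * g'⁻¹) * z⁻¹ := by
        have e2 : g' * z⁻¹ * g'⁻¹ = z⁻¹ := by
          rw [← hQN g' hg' z⁻¹ (inv_mem hzN), mul_inv_cancel_right]
        calc a * w * a⁻¹ = (a * v * a⁻¹) * g' * (a * v * a⁻¹)⁻¹ * g'⁻¹ := by rw [hw, hg'e]; group
          _ = (z * v) * g' * (z * v)⁻¹ * g'⁻¹ := by rw [hz]; group
          _ = z * (v * g' * v⁻¹ * g'⁻¹) * (g' * z⁻¹ * g'⁻¹) := by group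
          _ = z * (v * g' * v⁻¹ * g'⁻¹) * z⁻¹ := by rw [e2]
      have e3 : v * g' * v⁻¹ * g'⁻¹ ∈ cj m (l c) := hvQ g' hg'
      have e4 : z * (v * g' * v⁻¹ * g'⁻¹) * z⁻¹ = v * g' * v⁻¹ * g'⁻¹ := by
        rw [ecom z (hcN hzN) _ (hcN (L'N e3)), mul_inv_cancel_right]
      rw [e4] at e1
      have e5 : a * w * a⁻¹ * w⁻¹ ∈ cj m (l c) ⊓ l c := by
        refine mem_inf.2 ⟨?_, hFull.inl a ha w hwN⟩
        rw [e1]
        exact mul_mem e3 (inv_mem hwL)
      rw [ml] at e5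
      have e6 : a * w * a⁻¹ = w := mul_inv_eq_one.1 (mem_bot.1 e5)
      calc a * w = (a * w * a⁻¹) * a := by group
        _ = w * a := by rw [e6]
    have h1 : w ∈ cj m (l c) ⊓ l c := ⟨hwL, cNA ⟨hwN, hwA⟩⟩
    rw [ml] at h1
    exact mem_bot.1 h1
  -- conclusion
  intro g hg
  rw [mem_centralizer_iff]
  intro x hx
  have hv : m * x * m⁻¹ ∈ E c := (mem_normalizer_iff.1 mE x).1 (hX hx)
  have h1 : ∀ g ∈ Q, (m * x * m⁻¹) * g * (m * x * m⁻¹)⁻¹ * g⁻¹ ∈ cj m (l c) := by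
    intro g hg
    rw [mem_cj]
    have h2 := hl x hx _ (mQ' g hg)
    have e1 : m⁻¹ * ((m * x * m⁻¹) * g * (m * x * m⁻¹)⁻¹ * g⁻¹) * m =
        x * (m⁻¹ * g * m) * x⁻¹ * (m⁻¹ * g * m)⁻¹ := by group
    rw [e1]
    exact h2
  have h2 := main _ hv h1 (m * g * m⁻¹) ((mem_normalizer_iff.1 mQ g).1 hg)
  have e1 : (m * x * m⁻¹) * (m * g * m⁻¹) * (m * x * m⁻¹)⁻¹ * (m * g * m⁻¹)⁻¹ = m * (x * g * x⁻¹ * g⁻¹) * m⁻¹ := by
    group
  rw [e1] at h2
  have h3 : x * g * x⁻¹ * g⁻¹ = 1 := by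
    calc x * g * x⁻¹ * g⁻¹ = m⁻¹ * (m * (x * g * x⁻¹ * g⁻¹) * m⁻¹) * m := by group
      _ = 1 := by rw [h2]; group
  calc x * g = (x * g * x⁻¹ * g⁻¹) * (g * x) := by group
    _ = g * x := by rw [h3, one_mul]

end Fr

end Cfsg.Agent.Omega.NOThreeL.RWide.UniT

end

end

-- merged: Cfsg.Agent.Mrg.Omega.NOThreeL.RWide.UniT.Exc
section

section


/-!
# UNI_T: the exchange (steps EXC, X1, X2, X3 of helper995 #27590)

* `Fr.gen` : for `A ≤ T`, `A ≰ O₂(R)`, some `y ∈ R` with `R = ⟨T, A^(y⁻¹)⟩`;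
* `Fr.T_of` : `A ∈ AA(O)`, `x ∈ R`, `A^x ≤ T`: `A^x` is trivial or full on every block;
* `Fr.exact` : `C_A(U) U ∈ AA(O)`;
* `Fr.exc` : **the exchange**; `Fr.norm_sup`;
* `Fr.not_norm` : `R` does not normalise `l j`; `Fr.RY` : `R` normalises `N j · U`;
* `Fr.le_cent` : `A ∈ AA(O)`, `A ≤ O₂(R)` ⇒ `[N j, A] = 1`; `Fr.cov`, `Fr.l_le`, `Fr.QR_le`.
-/

set_option autoImplicit false
set_option linter.unusedSectionVars false

namespace Cfsg.Agent.Omega.NOThreeL.RWide.UniT

open Subgroup Cfsg Cfsg.Agent.Omega.MinPar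
open Cfsg.Agent.ZN (zc o2 zl)
open Cfsg.Agent.ZN.ChoiceBase (cj cj_mono cj_inf cj_centralizer cj_eq_of_mem_normalizer mem_cj mem_normalizer_iff_cj
  cj_cj_inv cj_inv_cj cj_cj cj_one isPGroup_cj card_cj AA mem_normalizer_of_cj_le cj_le_iff isElementaryAbelian_cj)
open Cfsg.Agent.ZN.ChoiceSit (Syl syl_not_dvd le_normalizer_o2 o2_le_syl o2_le)
open Cfsg.Agent.MinSimple.MinParabolic (IsMinPar)
open Cfsg.Agent.Omega.SQ1.Bau (mem_sup_comm)

universe u v

variable {G : Type u} [Group G] {ι : Type v}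

theorem conj_cj {g v : G} {H : Subgroup G} (hv : v ∈ H) : g * v * g⁻¹ ∈ cj g H := by
  rw [mem_cj]
  have e : g⁻¹ * (g * v * g⁻¹) * g = v := by group
  rwa [e]

theorem eab_comm {A : Subgroup G} (hA : IsElementaryAbelian 2 A) {x y : G} (hx : x ∈ A) (hy : y ∈ A) : x * y = y * x :=
  congrArg (fun t : A => (t : G)) (hA.1.is_comm.comm ⟨x, hx⟩ ⟨y, hy⟩)

theorem exists_ne_of {l : Subgroup G} (hl : l ≠ ⊥) : ∃ z ∈ l, z ≠ 1 := by
  by_contra hcon
  push Not at hcon
  exact hl (eq_bot_iff.2 fun z hz => mem_bot.2 (hcon z hz))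

theorem eab_of {A : Subgroup G} (hc : ∀ x ∈ A, ∀ y ∈ A, x * y = y * x) (h2 : ∀ x ∈ A, x * x = 1) :
    IsElementaryAbelian 2 A :=
  ⟨⟨⟨fun a b => Subtype.ext (hc a a.2 b b.2)⟩⟩, fun a ha => by rw [pow_two]; exact h2 a ha⟩

theorem mem_c {g : G} {H : Subgroup G} : g ∈ centralizer (H : Set G) ↔ ∀ x ∈ H, g * x = x * g := by
  rw [mem_centralizer_iff]
  exact ⟨fun h x hx => (h x hx).symm, fun h x hx => (h x hx).symm⟩

theorem comm_one {g x : G} (h : g * x = x * g) : g * x * g⁻¹ * x⁻¹ = 1 := by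
  rw [h]; group

theorem comm_of_one {g x : G} (h : g * x * g⁻¹ * x⁻¹ = 1) : g * x = x * g := by
  have e : g * x = (g * x * g⁻¹ * x⁻¹) * (x * g) := by group
  rw [e, h, one_mul]

namespace Fr

variable [Finite G] {T O R : Subgroup G} {N l E : ι → Subgroup G} {j : ι} (h : Fr T O R N l E j)
include h

theorem TR : T ≤ R := h.syl.1

theorem R_norm_U : R ≤ normalizer (zl T R : Set G) := Cfsg.Agent.ZN.le_normalizer_zl T R

theorem cjU {x : G} (hx : x ∈ R) : cj x (zl T R) = zl T R := cj_eq_of_mem_normalizer (h.R_norm_U hx)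

theorem UE {c : ι} (hc : c ≠ j) : zl T R ≤ E c := Cfsg.Agent.ZN.zl_le (h.ZE c hc) (h.RE c hc)

theorem exists_E (b : ι) : ∃ c, c ≠ j ∧ N b ≤ E c := by
  by_cases hb : b = j
  · subst hb
    obtain ⟨c, hc⟩ := h.ex
    exact ⟨c, hc, h.jE c hc⟩
  · exact ⟨b, hb, h.NE b hb⟩

theorem Ueab : IsElementaryAbelian 2 (zl T R) := by
  obtain ⟨c, hc⟩ := h.ex
  exact eab_mono (h.eab c hc) (h.UE hc)

theorem UO : zl T R ≤ O := by
  obtain ⟨c, hc⟩ := h.ex
  exact (h.UE hc).trans (h.EO c hc)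

theorem Uo2 : zl T R ≤ o2 R := by
  rw [← h.UQ]
  exact le_inf (h.UO.trans h.OT) (comA h.Ueab)

theorem o2T : o2 R ≤ T := h.UQ ▸ inf_le_left

theorem o2U : o2 R ≤ centralizer (zl T R : Set G) := h.UQ ▸ inf_le_right

theorem Neab (b : ι) : IsElementaryAbelian 2 (N b) := by
  obtain ⟨c, hc, h1⟩ := h.exists_E b
  exact eab_mono (h.eab c hc) h1

theorem commU (b : ι) : ∀ v ∈ N b, ∀ u ∈ zl T R, v * u = u * v := by
  obtain ⟨c, hc, h1⟩ := h.exists_E b
  exact fun v hv u hu => eab_comm (h.eab c hc) (h1 hv) (h.UE hc hu)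

theorem cjE {c : ι} (hc : c ≠ j) {x : G} (hx : x ∈ R) : cj x (E c) = E c := cj_eq_of_mem_normalizer (h.RE c hc hx)

/-! ### Generation -/

/-- `R = ⟨T, A^(y⁻¹)⟩` for some `y ∈ R` -/
theorem gen {A : Subgroup G} (hAT : A ≤ T) (hA : ¬ A ≤ o2 R) :
    ∃ y ∈ R, ∀ K : Subgroup G, T ≤ K → cj y⁻¹ A ≤ K → R ≤ K := by
  have : Fact (Nat.Prime 2) := ⟨Nat.prime_two⟩
  obtain ⟨M, hMR, hM⟩ := h.par.exists_max
  have hTM : T ≤ M := by
    refine hM T le_rfl (lt_of_le_of_ne h.TR ?_)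
    rintro e
    exact h.par.not_le (e ▸ le_normalizer)
  have key : ∃ y ∈ R, ¬ cj y⁻¹ A ≤ M := by
    by_contra hcon
    push Not at hcon
    set K : Subgroup G := ⨆ r : R, cj (r : G) A with hK
    have hAK : A ≤ K := by
      have h1 : cj ((1 : R) : G) A ≤ K := le_iSup (fun r : R => cj (r : G) A) 1
      rwa [Subgroup.coe_one, cj_one] at h1
    have hKM : K ≤ M := iSup_le fun r => by
      have h1 := hcon (r : G)⁻¹ (inv_mem r.2)
      rwa [inv_inv] at h1
    have hKR : K ≤ R := hKM.trans hMR.le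
    have hn : R ≤ normalizer (K : Set G) := by
      intro x hx
      refine mem_normalizer_of_cj_le ?_
      show Subgroup.map _ K ≤ K
      rw [hK, Subgroup.map_iSup]
      refine iSup_le fun r => ?_
      show cj x (cj (r : G) A) ≤ _
      rw [cj_cj]
      exact le_iSup (fun r : R => cj (r : G) A) (⟨x, hx⟩ * r)
    rcases h.par.sup_eq_or_inf_le h.two (syl_not_dvd h.syl) hKR hn with h1 | h1
    · exact hMR.not_ge (h1 ▸ sup_le hKM hTM)
    · exact hA ((le_inf hAT hAK).trans h1)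
  obtain ⟨y, hy, hyM⟩ := key
  refine ⟨y, hy, fun K hTK hAK => ?_⟩
  by_contra hne
  have h1 : K ⊓ R < R := lt_of_le_of_ne inf_le_right fun e => hne (e ▸ inf_le_left)
  have h2 := hM (K ⊓ R) (le_inf hTK h.TR) h1
  refine hyM ((le_inf hAK ?_).trans h2)
  rw [cj_le_iff, inv_inv, cj_eq_of_mem_normalizer (le_normalizer hy)]
  exact hAT.trans h.TR

/-! ### `(T)` -/

theorem T_of {O' A : Subgroup G} {b c : ι} (hc : c ≠ j) (hcO : E c ≤ O') (hb : N b ≤ E c) (hA : A ∈ AA O') {x : G}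
    (hx : x ∈ R) (hxT : cj x A ≤ T) :
    cj x A ≤ centralizer (N b : Set G) ∨ Full (cj x A) (N b) (l b) := by
  refine h.off b _ hxT (isElementaryAbelian_cj x hA.1) ?_
  have h1 : cj x⁻¹ (N b) ≤ E c := by
    rw [← h.cjE hc (inv_mem hx)]
    exact cj_mono _ hb
  have h2 := thom hA (isElementaryAbelian_cj x⁻¹ (h.Neab b)) (h1.trans hcO)
  rw [card_cj] at h2
  have h3 : Nat.card ↥(A ⊓ centralizer ((cj x⁻¹ (N b) : Subgroup G) : Set G)) =
      Nat.card ↥(cj x A ⊓ centralizer (N b : Set G)) := by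
    rw [← card_cj x (A ⊓ _), cj_inf, cj_centralizer, cj_cj_inv]
  have h4 : Nat.card ↥(cj x⁻¹ (N b) ⊓ centralizer (A : Set G)) =
      Nat.card ↥(N b ⊓ centralizer ((cj x A : Subgroup G) : Set G)) := by
    rw [← card_cj x (cj x⁻¹ (N b) ⊓ _), cj_inf, cj_centralizer, cj_cj_inv]
  rw [h3, h4] at h2
  rw [card_cj]
  exact h2

theorem T_one {O' A : Subgroup G} {b c : ι} (hc : c ≠ j) (hcO : E c ≤ O') (hb : N b ≤ E c) (hA : A ∈ AA O')
    (hAT : A ≤ T) : A ≤ centralizer (N b : Set G) ∨ Full A (N b) (l b) := by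
  have h1 := h.T_of hc hcO hb hA (one_mem R) (by rw [cj_one]; exact hAT)
  rwa [cj_one] at h1

theorem inl_of {O' A : Subgroup G} {b c : ι} (hc : c ≠ j) (hcO : E c ≤ O') (hb : N b ≤ E c) (hA : A ∈ AA O') {x : G}
    (hx : x ∈ R) (hxT : cj x A ≤ T) : ∀ a ∈ cj x A, ∀ v ∈ N b, a * v * a⁻¹ * v⁻¹ ∈ l b := by
  intro a ha v hv
  rcases h.T_of hc hcO hb hA hx hxT with h1 | h1
  · rw [comm_one (mem_c.1 (h1 ha) v hv)]
    exact one_mem _
  · exact h1.inl a ha v hv

theorem cent_l {O' A : Subgroup G} {b c : ι} (hc : c ≠ j) (hcO : E c ≤ O') (hb : N b ≤ E c) (hA : A ∈ AA O')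
    (hAT : A ≤ T) : A ≤ centralizer (l b : Set G) := by
  rcases h.T_one hc hcO hb hA hAT with h1 | h1
  · exact h1.trans (centralizer_le (h.lN b))
  · exact h1.cent

/-! ### Exactness on `U` -/

section act

variable (hno : FFThm.NoOver (zl T R) R)
include hno

theorem exact_le {A : Subgroup G} (hA : IsElementaryAbelian 2 A) (hAT : A ≤ T) :
    Nat.card A * Nat.card ↥(zl T R ⊓ centralizer (A : Set G)) ≤
      Nat.card (zl T R) * Nat.card ↥(A ⊓ centralizer (zl T R : Set G)) :=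
  hno A (hAT.trans h.TR) hA

theorem exact {O' A : Subgroup G} {c : ι} (hc : c ≠ j) (hcO : E c ≤ O') (hA : A ∈ AA O') (hAT : A ≤ T) :
    (A ⊓ centralizer (zl T R : Set G)) ⊔ zl T R ∈ AA O' :=
  swap_mem hA h.Ueab ((h.UE hc).trans hcO) (h.exact_le hno hA.1 hAT)

omit hno in
theorem A0_le {A : Subgroup G} (hA : A ≤ T) : (A ⊓ centralizer (zl T R : Set G)) ⊔ zl T R ≤ o2 R := by
  refine sup_le ?_ h.Uo2
  rw [← h.UQ]
  exact inf_le_inf_right _ hA

omit h hno in
/-- a full group has `C_N(A) = l` -/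
theorem _root_.Cfsg.Agent.Omega.NOThreeL.RWide.UniT.Full.inf_eq {A N l : Subgroup G} (hf : Full A N l) (hlN : l ≤ N)
    (hl : l ≠ ⊥) : N ⊓ centralizer (A : Set G) = l := by
  apply le_antisymm
  · rintro v ⟨hv, hvA⟩
    by_contra hvl
    obtain ⟨z, hz, hz1⟩ := exists_ne_of hl
    obtain ⟨a, ha, hz'⟩ := hf.onA v hv hvl z hz
    rw [comm_one (mem_c.1 hvA a ha).symm] at hz'
    exact hz1 hz'.symm
  · refine le_inf hlN fun z hz => mem_c.2 fun a ha => (mem_c.1 (hf.cent ha) z hz).symm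

/-- **the exchange** -/
theorem exc {O' A : Subgroup G} {b c : ι} (hc : c ≠ j) (hcO : E c ≤ O') (hbc : N b ≤ E c) (hA : A ∈ AA O')
    (hAT : A ≤ T) {y : G} (hy : y ∈ R) :
    cj y (N b) ≤ (A ⊓ centralizer (zl T R : Set G)) ⊔ zl T R ∨
      (¬ A ⊓ centralizer (zl T R : Set G) ≤ centralizer ((cj y (N b) : Subgroup G) : Set G) ∧
        ∀ a ∈ A, cj a (cj y (l b)) = cj y (l b)) := by
  set U := zl T R with hU
  set A0 := A ⊓ centralizer (U : Set G) with hA0
  set N' := cj y (N b) with hN'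
  have hE0 : A0 ⊔ U ∈ AA O' := h.exact hno hc hcO hA hAT
  have hN'E : N' ≤ E c := by
    rw [← h.cjE hc hy]
    exact cj_mono _ hbc
  have hN'eab : IsElementaryAbelian 2 N' := isElementaryAbelian_cj y (h.Neab b)
  have hUN : U ≤ centralizer (N' : Set G) := fun u hu => mem_c.2 fun v hv =>
    eab_comm (h.eab c hc) (h.UE hc hu) (hN'E hv)
  by_cases hcase : A0 ≤ centralizer (N' : Set G)
  · left
    have h1 : A0 ⊔ U ≤ centralizer (N' : Set G) := sup_le hcase hUN
    have h2 := cent_le hE0 hN'eab (hN'E.trans hcO)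
    refine (le_inf le_rfl fun v hv => mem_c.2 fun e he => ?_).trans h2
    exact (mem_c.1 (h1 he) v hv).symm
  · refine Or.inr ⟨hcase, fun a ha => ?_⟩
    have haR : a ∈ R := h.TR (hAT ha)
    -- `A₀U` is full on `N'`
    have hE0T : cj y⁻¹ (A0 ⊔ U) ≤ T := by
      have h1 : A0 ⊔ U ≤ o2 R := h.A0_le hAT
      have h2 : cj y⁻¹ (A0 ⊔ U) ≤ o2 R := by
        rw [← cj_eq_of_mem_normalizer (le_normalizer_o2 R (inv_mem hy))]
        exact cj_mono _ h1
      exact h2.trans h.o2T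
    have hF : Full (cj y⁻¹ (A0 ⊔ U)) (N b) (l b) := by
      rcases h.T_of hc hcO hbc hE0 (inv_mem hy) hE0T with h1 | h1
      · exfalso
        apply hcase
        rw [cj_le_iff, inv_inv, cj_centralizer] at h1
        exact le_sup_left.trans h1
      · exact h1
    have hcard : Nat.card ↥(A0 ⊔ U) = Nat.card ↥((A0 ⊔ U) ⊓ centralizer (N' : Set G)) * Nat.card (l b) := by
      have h1 := hF.cardA
      rw [card_cj] at h1
      rw [h1]
      congr 1
      rw [← card_cj y (cj y⁻¹ (A0 ⊔ U) ⊓ _), cj_inf, cj_centralizer, cj_cj_inv]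
    -- `X = N' N'^a`
    set X := N' ⊔ cj a N' with hX
    have hXE : X ≤ E c := by
      refine sup_le hN'E ?_
      rw [← h.cjE hc haR]
      exact cj_mono _ hN'E
    have hXeab := eab_mono (h.eab c hc) hXE
    have hEa : ∀ e ∈ A0 ⊔ U, a * e * a⁻¹ ∈ A0 ⊔ U ∧ ∃ α ∈ A0, ∃ u ∈ U, e = α * u := by
      intro e he
      have hcA : ∀ α ∈ A0, ∀ u ∈ U, α * u = u * α := fun α hα u hu => mem_c.1 (mem_inf.1 hα).2 u hu
      obtain ⟨α, hα, u, hu, rfl⟩ := mem_sup_comm hcA he
      refine ⟨?_, α, hα, u, hu, rfl⟩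
      have e1 : a * (α * u) * a⁻¹ = (a * α * a⁻¹) * (a * u * a⁻¹) := by group
      rw [e1, eab_comm hA.1 ha hα.1, mul_inv_cancel_right]
      refine mul_mem (le_sup_left (a := A0) hα) (le_sup_right (a := A0) ?_)
      have := conj_cj (g := a) hu
      rwa [h.cjU haR] at this
    have hCX : (A0 ⊔ U) ⊓ centralizer (X : Set G) = (A0 ⊔ U) ⊓ centralizer (N' : Set G) := by
      apply le_antisymm
      · exact inf_le_inf_left _ (centralizer_le (SetLike.coe_subset_coe.2 le_sup_left))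
      · intro e he'
        obtain ⟨he, heN⟩ := mem_inf.1 he'
        refine mem_inf.2 ⟨he, ?_⟩
        obtain ⟨-, α, hα, u, hu, rfl⟩ := hEa e he
        have hαN : α ∈ centralizer (N' : Set G) := by
          have h1 := mul_mem heN (inv_mem (hUN hu))
          rwa [mul_inv_cancel_right] at h1
        have h2 : (cj a N') ≤ centralizer ((zpowers (α * u) : Subgroup G) : Set G) := by
          intro w hw
          rw [mem_centralizer_iff]
          rintro _ ⟨k, rfl⟩
          have h3 : (α * u) * w = w * (α * u) := by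
            obtain ⟨v, hv, rfl⟩ : ∃ v ∈ N', a * v * a⁻¹ = w := ⟨a⁻¹ * w * a, mem_cj.1 hw, by group⟩
            have h4 : α * (a * v * a⁻¹) = (a * v * a⁻¹) * α := by
              have e1 : α * (a * v * a⁻¹) = (α * a) * v * a⁻¹ := by group
              have e2 : (a * v * a⁻¹) * α = a * v * (a⁻¹ * α) := by group
              have e3 : a⁻¹ * α = α * a⁻¹ := eab_comm hA.1 (inv_mem ha) hα.1
              rw [e1, e2, eab_comm hA.1 hα.1 ha, e3]
              have e4 : a * α * v * a⁻¹ = a * (α * v) * a⁻¹ := by group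
              rw [e4, mem_c.1 hαN v hv]
              group
            have h5 : u * (a * v * a⁻¹) = (a * v * a⁻¹) * u :=
              eab_comm (h.eab c hc) (h.UE hc hu) (hXE (le_sup_right (a := N') (conj_cj hv)))
            rw [mul_assoc, h5, ← mul_assoc, h4, mul_assoc]
          exact (Commute.zpow_left (show Commute (α * u) w from h3) k)
        rw [mem_c]
        intro x hx
        have h6 : X ≤ centralizer ((zpowers (α * u) : Subgroup G) : Set G) := by
          refine sup_le (fun v hv => ?_) h2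
          rw [mem_centralizer_iff]
          rintro _ ⟨k, rfl⟩
          exact (Commute.zpow_left (show Commute (α * u) v from mem_c.1 heN v hv) k)
        exact (mem_centralizer_iff.1 (h6 hx)) _ (mem_zpowers _)
    have hthom := thom hE0 hXeab (hXE.trans hcO)
    rw [hCX, hcard] at hthom
    have hX1 : Nat.card X ≤ Nat.card (l b) * Nat.card ↥(X ⊓ centralizer ((A0 ⊔ U : Subgroup G) : Set G)) := by
      have h1 : 0 < Nat.card ↥((A0 ⊔ U) ⊓ centralizer (N' : Set G)) := Nat.card_pos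
      refine Nat.le_of_mul_le_mul_left ?_ h1
      calc _ = Nat.card X * Nat.card ↥((A0 ⊔ U) ⊓ centralizer (N' : Set G)) := mul_comm _ _
        _ ≤ _ := hthom
        _ = _ := by ring
    have hinf : N' ⊓ centralizer ((A0 ⊔ U : Subgroup G) : Set G) = cj y (l b) := by
      have h1 := hF.inf_eq (h.lN b) (h.lne b)
      have h2 := congrArg (cj y) h1
      rwa [cj_inf, cj_centralizer, cj_cj_inv] at h2
    have hXeq : N' ⊔ (X ⊓ centralizer ((A0 ⊔ U : Subgroup G) : Set G)) = X := by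
      refine Subgroup.eq_of_le_of_card_ge (sup_le le_sup_left inf_le_left) ?_
      have h1 : X ⊓ centralizer ((A0 ⊔ U : Subgroup G) : Set G) ≤ centralizer (N' : Set G) := fun x hx =>
        mem_c.2 fun v hv => eab_comm hXeab hx.1 (le_sup_left (b := cj a N') hv)
      have h2 := Cfsg.Agent.PLocal.ElemAbSup.card_sup_mul_card_inf h1
      have h3 : N' ⊓ (X ⊓ centralizer ((A0 ⊔ U : Subgroup G) : Set G)) = cj y (l b) := by
        rw [← inf_assoc, inf_eq_left.2 (le_sup_left : N' ≤ X), hinf]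
      rw [h3, card_cj, card_cj, h.cardN b] at h2
      have h4 : 0 < Nat.card (l b) := Nat.card_pos
      refine Nat.le_of_mul_le_mul_right ?_ h4
      rw [h2]
      calc Nat.card X * Nat.card (l b)
          ≤ (Nat.card (l b) * Nat.card ↥(X ⊓ centralizer ((A0 ⊔ U : Subgroup G) : Set G))) * Nat.card (l b) :=
            Nat.mul_le_mul_right _ hX1
        _ = _ := by ring
    -- lines
    have hle : cj a (cj y (l b)) ≤ cj y (l b) := by
      intro w hw
      obtain ⟨e0, he0, he0N⟩ : ∃ e ∈ cj y⁻¹ (A0 ⊔ U), e ∉ centralizer (N b : Set G) := by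
        by_contra hcon
        push Not at hcon
        exact hF.ne hcon
      have hz : y⁻¹ * (a⁻¹ * w * a) * y ∈ l b := mem_cj.1 (mem_cj.1 hw)
      obtain ⟨v, hv, hvz⟩ := hF.onN e0 he0 he0N _ hz
      have he0' : y * e0 * y⁻¹ ∈ A0 ⊔ U := by
        have := mem_cj.1 he0
        rwa [inv_inv] at this
      have hw1 : w = (a * (y * e0 * y⁻¹) * a⁻¹) * (a * (y * v * y⁻¹) * a⁻¹) * (a * (y * e0 * y⁻¹) * a⁻¹)⁻¹ *
          (a * (y * v * y⁻¹) * a⁻¹)⁻¹ := by
        have e1 : w = a * (y * (y⁻¹ * (a⁻¹ * w * a) * y) * y⁻¹) * a⁻¹ := by group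
        rw [e1, ← hvz]
        group
      set e' := a * (y * e0 * y⁻¹) * a⁻¹ with he'
      have he'E : e' ∈ A0 ⊔ U := (hEa _ he0').1
      have hv' : a * (y * v * y⁻¹) * a⁻¹ ∈ N' ⊔ (X ⊓ centralizer ((A0 ⊔ U : Subgroup G) : Set G)) := by
        rw [hXeq]
        exact le_sup_right (a := N') (conj_cj (conj_cj hv))
      have hcX : ∀ n ∈ N', ∀ x ∈ X ⊓ centralizer ((A0 ⊔ U : Subgroup G) : Set G), n * x = x * n := fun n hn x hx =>
        eab_comm hXeab (le_sup_left (b := cj a N') hn) (mem_inf.1 hx).1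
      obtain ⟨n1, hn1, w1, hw1', hnw⟩ := mem_sup_comm hcX hv'
      rw [hnw] at hw1
      have hew : e' * w1 = w1 * e' := (mem_c.1 (mem_inf.1 hw1').2 e' he'E).symm
      have e2 : w = e' * n1 * e'⁻¹ * n1⁻¹ := by
        rw [hw1]
        calc e' * (n1 * w1) * e'⁻¹ * (n1 * w1)⁻¹ = e' * n1 * (w1 * e'⁻¹ * w1⁻¹) * n1⁻¹ := by group
          _ = e' * n1 * (e'⁻¹) * n1⁻¹ := by
            rw [← (show Commute e' w1 from hew).inv_left.eq, mul_inv_cancel_right]
      rw [mem_cj, e2]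
      have e3 : y⁻¹ * (e' * n1 * e'⁻¹ * n1⁻¹) * y =
          (y⁻¹ * e' * y) * (y⁻¹ * n1 * y) * (y⁻¹ * e' * y)⁻¹ * (y⁻¹ * n1 * y)⁻¹ := by group
      rw [e3]
      refine hF.inl _ ?_ _ (mem_cj.1 hn1)
      have := conj_cj (g := y⁻¹) he'E
      rwa [inv_inv] at this
    exact Subgroup.eq_of_le_of_card_ge hle (card_cj a _).ge

omit hno in
/-- `R` normalises `N b · U` if `N b ^ y ≤ C_A(U) U` -/
theorem norm_sup {A : Subgroup G} (hA : IsElementaryAbelian 2 A) (hAT : A ≤ T) {b : ι} {y : G} (hy : y ∈ R)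
    (hg : ∀ K : Subgroup G, T ≤ K → cj y⁻¹ A ≤ K → R ≤ K)
    (h1 : cj y (N b) ≤ (A ⊓ centralizer (zl T R : Set G)) ⊔ zl T R) : R ≤ normalizer ((N b ⊔ zl T R : Subgroup G) : Set G) := by
  have hT : T ≤ normalizer ((N b ⊔ zl T R : Subgroup G) : Set G) := by
    intro t ht
    refine mem_normalizer_of_cj_le ?_
    show Subgroup.map _ (N b ⊔ zl T R) ≤ _
    rw [Subgroup.map_sup]
    exact sup_le_sup (cj_eq_of_mem_normalizer (h.TN b ht)).le (h.cjU (h.TR ht)).le
  refine hg _ hT ?_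
  intro a' ha'
  refine mem_normalizer_of_cj_le ?_
  have haA : y * a' * y⁻¹ ∈ A := by
    have := mem_cj.1 ha'
    rwa [inv_inv] at this
  have ha'R : a' ∈ R := by
    have e : a' = y⁻¹ * (y * a' * y⁻¹) * y := by group
    rw [e]
    exact mul_mem (mul_mem (inv_mem hy) (h.TR (hAT haA))) hy
  show Subgroup.map _ (N b ⊔ zl T R) ≤ _
  rw [Subgroup.map_sup]
  refine sup_le ?_ ((h.cjU ha'R).le.trans le_sup_right)
  rintro _ ⟨v, hv, rfl⟩
  show a' * v * a'⁻¹ ∈ _
  have hcA : ∀ α ∈ A ⊓ centralizer (zl T R : Set G), ∀ u ∈ zl T R, α * u = u * α := fun α hα u hu =>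
    mem_c.1 (mem_inf.1 hα).2 u hu
  obtain ⟨α, hα, u, hu, hau⟩ := mem_sup_comm hcA (h1 (conj_cj (g := y) hv))
  set a := y * a' * y⁻¹ with ha
  have e1 : a' * v * a'⁻¹ = y⁻¹ * (a * (y * v * y⁻¹) * a⁻¹) * y := by rw [ha]; group
  have e2 : a * (α * u) * a⁻¹ = (α * u) * (u⁻¹ * (a * u * a⁻¹)) := by
    have e3 : a * α = α * a := eab_comm hA haA hα.1
    calc a * (α * u) * a⁻¹ = (a * α) * u * a⁻¹ := by group
      _ = (α * a) * u * a⁻¹ := by rw [e3]
      _ = _ := by group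
  have haR : a ∈ R := h.TR (hAT haA)
  have hau' : a * u * a⁻¹ ∈ zl T R := by
    have := conj_cj (g := a) hu
    rwa [h.cjU haR] at this
  rw [e1, hau, e2, ← hau]
  have e4 : y⁻¹ * (y * v * y⁻¹ * (u⁻¹ * (a * u * a⁻¹))) * y = v * (y⁻¹ * (u⁻¹ * (a * u * a⁻¹)) * y) := by group
  rw [e4]
  refine mul_mem (le_sup_left (a := N b) hv) (le_sup_right (a := N b) ?_)
  have h5 := conj_cj (g := y⁻¹) (mul_mem (inv_mem hu) hau')
  rwa [inv_inv, h.cjU (inv_mem hy)] at h5

/-! ### `R` does not normalise `l j` -/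

omit hno in
theorem not_norm {O' : Subgroup G} {c : ι} (hc : c ≠ j) (hcO : E c ≤ O')
    (hex : ∃ A ∈ AA O', A ≤ T ∧ ¬ A ≤ o2 R) : ¬ R ≤ normalizer (l j : Set G) := by
  intro hn
  obtain ⟨A, hA, hAT, hAQ⟩ := hex
  set K : Subgroup G := l j ⊔ ⨆ b : {b // b ≠ j}, (l (b : ι) ⊓ centralizer (T : Set G)) with hK
  have hRK : R ≤ normalizer (K : Set G) := by
    intro x hx
    refine mem_normalizer_of_cj_le ?_
    show Subgroup.map _ K ≤ _
    rw [hK, Subgroup.map_sup, Subgroup.map_iSup]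
    refine sup_le_sup (cj_eq_of_mem_normalizer (hn hx)).le (iSup_mono fun b => ?_)
    exact (cj_eq_of_mem_normalizer (centralizer_le_normalizer _ (h.RF b b.2 hx))).le
  have hZK : zc T ≤ K := by
    refine h.zT.trans (iSup_le fun b => ?_)
    by_cases hb : b = j
    · subst hb
      exact inf_le_left.trans le_sup_left
    · exact (le_iSup (fun b : {b // b ≠ j} => l (b : ι) ⊓ centralizer (T : Set G)) ⟨b, hb⟩).trans le_sup_right
  have hUK : zl T R ≤ K := Cfsg.Agent.ZN.zl_le hZK hRK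
  have hKA : K ≤ centralizer (A : Set G) := by
    refine sup_le ?_ (iSup_le fun b => inf_le_right.trans (centralizer_le hAT))
    exact fun z hz => mem_c.2 fun a ha => (mem_c.1 (h.cent_l hc hcO (h.jE c hc) hA hAT ha) z hz).symm
  refine hAQ ?_
  rw [← h.UQ]
  exact le_inf hAT fun a ha => mem_c.2 fun u hu => (mem_c.1 (hKA (hUK hu)) a ha).symm

/-- `R` normalises `N j · U` -/
theorem RY {O' : Subgroup G} {c : ι} (hc : c ≠ j) (hcO : E c ≤ O') (hex : ∃ A ∈ AA O', A ≤ T ∧ ¬ A ≤ o2 R) :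
    R ≤ normalizer ((N j ⊔ zl T R : Subgroup G) : Set G) := by
  obtain ⟨A, hA, hAT, hAQ⟩ := hex
  obtain ⟨y, hy, hg⟩ := h.gen hAT hAQ
  rcases h.exc hno hc hcO (h.jE c hc) hA hAT hy with h1 | ⟨-, h1⟩
  · exact h.norm_sup hA.1 hAT hy hg h1
  · exfalso
    refine h.not_norm hc hcO ⟨A, hA, hAT, hAQ⟩ (hg _ (h.Tl j) fun a' ha' => ?_)
    have haA : y * a' * y⁻¹ ∈ A := by
      have := mem_cj.1 ha'
      rwa [inv_inv] at this
    rw [mem_normalizer_iff_cj]
    have h2 := congrArg (cj y⁻¹) (h1 _ haA)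
    rw [cj_cj, cj_cj, cj_inv_cj] at h2
    have e : y⁻¹ * (y * a' * y⁻¹) * y = a' := by group
    rwa [e] at h2

/-- the pattern: a family of subsets of `O₂(R)`, closed under `R`, with values in `l j`, one of them covering `l j` -/
theorem pat {O' : Subgroup G} {c : ι} (hc : c ≠ j) (hcO : E c ≤ O') (hex : ∃ A ∈ AA O', A ≤ T ∧ ¬ A ≤ o2 R)
    {q : G} (hql : q ∈ centralizer (l j : Set G)) (hq : ∀ x ∈ R, x * q * x⁻¹ ∈ o2 R ∧ ∀ v ∈ N j, (x * q * x⁻¹) * v * (x * q * x⁻¹)⁻¹ * v⁻¹ ∈ l j) :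
    q ∈ centralizer (N j : Set G) := by
  by_contra hqN
  refine h.not_norm hc hcO hex fun x hx => mem_normalizer_of_cj_le ?_
  have hqT : q ∈ T := by
    have := (hq 1 (one_mem R)).1
    rw [one_mul, inv_one, mul_one] at this
    exact h.o2T this
  rintro _ ⟨z, hz, rfl⟩
  show x * z * x⁻¹ ∈ l j
  obtain ⟨v, hv, rfl⟩ := (h.rt j q hqT hql).2 hqN z hz
  have hv' : x * v * x⁻¹ ∈ N j ⊔ zl T R := by
    have h1 := conj_cj (g := x) (le_sup_left (a := N j) (b := zl T R) hv)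
    rwa [cj_eq_of_mem_normalizer (h.RY hno hc hcO hex hx)] at h1
  obtain ⟨n, hn, u, hu, hnu⟩ := mem_sup_comm (h.commU j) hv'
  have hq' := hq x hx
  set q' := x * q * x⁻¹ with hq'def
  have e1 : x * (q * v * q⁻¹ * v⁻¹) * x⁻¹ = q' * (x * v * x⁻¹) * q'⁻¹ * (x * v * x⁻¹)⁻¹ := by rw [hq'def]; group
  have hqu : q' * u = u * q' := mem_c.1 (h.o2U hq'.1) u hu
  have e2 : q' * (n * u) * q'⁻¹ * (n * u)⁻¹ = q' * n * q'⁻¹ * n⁻¹ := by
    calc q' * (n * u) * q'⁻¹ * (n * u)⁻¹ = q' * n * (u * q'⁻¹ * u⁻¹) * n⁻¹ := by group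
      _ = q' * n * q'⁻¹ * n⁻¹ := by rw [← (show Commute q' u from hqu).inv_left.eq, mul_inv_cancel_right]
  rw [e1, hnu, e2]
  exact hq'.2 n hn

/-- **(X2)** : a member of `AA` in `O₂(R)` centralises `N j` -/
theorem le_cent {O' : Subgroup G} {c : ι} (hc : c ≠ j) (hcO : E c ≤ O') (hex : ∃ A ∈ AA O', A ≤ T ∧ ¬ A ≤ o2 R)
    {A : Subgroup G} (hA : A ∈ AA O') (hAQ : A ≤ o2 R) : A ≤ centralizer (N j : Set G) := by
  have hAT : A ≤ T := hAQ.trans h.o2T
  intro q hq
  refine h.pat hno hc hcO hex (h.cent_l hc hcO (h.jE c hc) hA hAT hq) fun x hx => ?_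
  have h1 : cj x A ≤ o2 R := by
    rw [← cj_eq_of_mem_normalizer (le_normalizer_o2 R hx)]
    exact cj_mono _ hAQ
  exact ⟨h1 (conj_cj hq), h.inl_of hc hcO (h.jE c hc) hA hx (h1.trans h.o2T) _ (conj_cj hq)⟩

/-- **(X3)** : the properties of a member of `AA` which moves `N j` -/
theorem x3 {O' : Subgroup G} {c : ι} (hc : c ≠ j) (hcO : E c ≤ O') (hex : ∃ A ∈ AA O', A ≤ T ∧ ¬ A ≤ o2 R)
    {A : Subgroup G} (hA : A ∈ AA O') (hAT : A ≤ T) (hAj : ¬ A ≤ centralizer (N j : Set G)) :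
    ¬ A ≤ o2 R ∧ Full A (N j) (l j) ∧ A ⊓ centralizer (zl T R : Set G) ≤ centralizer (N j : Set G) ∧
      N j ⊔ zl T R ≤ zl T R ⊔ ((N j ⊔ zl T R) ⊓ centralizer (A : Set G)) ∧ l j ≤ zl T R ∧
      o2 R ≤ centralizer (N j : Set G) := by
  have hAQ : ¬ A ≤ o2 R := fun h1 => hAj (h.le_cent hno hc hcO hex hA h1)
  have hF : Full A (N j) (l j) := (h.T_one hc hcO (h.jE c hc) hA hAT).resolve_left hAj
  have hA0 : A ⊓ centralizer (zl T R : Set G) ≤ centralizer (N j : Set G) :=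
    le_sup_left.trans (h.le_cent hno hc hcO hex (h.exact hno hc hcO hA hAT) (h.A0_le hAT))
  set U := zl T R with hU
  have hYE : N j ⊔ U ≤ E c := sup_le (h.jE c hc) (h.UE hc)
  have hYeab := eab_mono (h.eab c hc) hYE
  have hcY : A ⊓ centralizer ((N j ⊔ U : Subgroup G) : Set G) = A ⊓ centralizer (U : Set G) := by
    apply le_antisymm
    · exact inf_le_inf_left _ (centralizer_le (SetLike.coe_subset_coe.2 le_sup_right))
    · intro a ha
      refine mem_inf.2 ⟨(mem_inf.1 ha).1, mem_c.2 fun y hy => ?_⟩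
      obtain ⟨n, hn, u, hu, rfl⟩ := mem_sup_comm (h.commU j) hy
      rw [← mul_assoc, mem_c.1 (hA0 ha) n hn, mul_assoc, mem_c.1 (mem_inf.1 ha).2 u hu, mul_assoc]
  have hcov : N j ⊔ U ≤ U ⊔ ((N j ⊔ U) ⊓ centralizer (A : Set G)) := by
    have h1 := thom hA hYeab (hYE.trans hcO)
    rw [hcY] at h1
    have h2 := h.exact_le hno hA.1 hAT
    have h3 : (N j ⊔ U) ⊓ centralizer (A : Set G) ≤ centralizer (U : Set G) := fun x hx =>
      mem_c.2 fun u hu => eab_comm hYeab (mem_inf.1 hx).1 (le_sup_right (a := N j) hu)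
    have h4 := Cfsg.Agent.PLocal.ElemAbSup.card_sup_mul_card_inf h3
    have h5 : U ⊓ ((N j ⊔ U) ⊓ centralizer (A : Set G)) = U ⊓ centralizer (A : Set G) := by
      rw [← inf_assoc, inf_eq_left.2 (le_sup_right : U ≤ N j ⊔ U)]
    rw [h5] at h4
    have h6 : U ⊔ ((N j ⊔ U) ⊓ centralizer (A : Set G)) = N j ⊔ U := by
      refine Subgroup.eq_of_le_of_card_ge (sup_le le_sup_right inf_le_left) ?_
      have p1 : 0 < Nat.card ↥(A ⊓ centralizer (U : Set G)) := Nat.card_pos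
      have p2 : 0 < Nat.card ↥(U ⊓ centralizer (A : Set G)) := Nat.card_pos
      refine Nat.le_of_mul_le_mul_right ?_ p2
      rw [h4]
      refine Nat.le_of_mul_le_mul_right ?_ p1
      calc Nat.card ↥(N j ⊔ U) * Nat.card ↥(U ⊓ centralizer (A : Set G)) * Nat.card ↥(A ⊓ centralizer (U : Set G))
          = (Nat.card ↥(N j ⊔ U) * Nat.card ↥(A ⊓ centralizer (U : Set G))) *
            Nat.card ↥(U ⊓ centralizer (A : Set G)) := by ring
        _ ≤ (Nat.card A * Nat.card ↥((N j ⊔ U) ⊓ centralizer (A : Set G))) *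
            Nat.card ↥(U ⊓ centralizer (A : Set G)) := Nat.mul_le_mul_right _ h1
        _ = (Nat.card A * Nat.card ↥(U ⊓ centralizer (A : Set G))) *
            Nat.card ↥((N j ⊔ U) ⊓ centralizer (A : Set G)) := by ring
        _ ≤ (Nat.card U * Nat.card ↥(A ⊓ centralizer (U : Set G))) *
            Nat.card ↥((N j ⊔ U) ⊓ centralizer (A : Set G)) := Nat.mul_le_mul_right _ h2
        _ = _ := by ring
    exact h6.ge
  have hlU : l j ≤ U := by
    intro z hz
    obtain ⟨a, ha, haN⟩ : ∃ a ∈ A, a ∉ centralizer (N j : Set G) := by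
      by_contra hcon
      push Not at hcon
      exact hF.ne hcon
    obtain ⟨v, hv, rfl⟩ := hF.onN a ha haN z hz
    have hcU : ∀ u ∈ U, ∀ x ∈ (N j ⊔ U) ⊓ centralizer (A : Set G), u * x = x * u := fun u hu x hx =>
      eab_comm hYeab (le_sup_right (a := N j) hu) (mem_inf.1 hx).1
    obtain ⟨u, hu, x, hx, rfl⟩ := mem_sup_comm hcU (hcov (le_sup_left (a := N j) hv))
    have hax : a * x = x * a := (mem_c.1 (mem_inf.1 hx).2 a ha).symm
    have e1 : a * (u * x) * a⁻¹ * (u * x)⁻¹ = a * u * a⁻¹ * u⁻¹ := by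
      calc a * (u * x) * a⁻¹ * (u * x)⁻¹ = a * u * (x * a⁻¹ * x⁻¹) * u⁻¹ := by group
        _ = a * u * a⁻¹ * u⁻¹ := by rw [← (show Commute a x from hax).inv_left.eq, mul_inv_cancel_right]
    rw [e1]
    refine mul_mem ?_ (inv_mem hu)
    have := conj_cj (g := a) hu
    rwa [h.cjU (h.TR (hAT ha))] at this
  refine ⟨hAQ, hF, hA0, hcov, hlU, fun q hq => ?_⟩
  refine h.pat hno hc hcO hex (centralizer_le hlU (h.o2U hq)) fun x hx => ?_
  have h1 : x * q * x⁻¹ ∈ o2 R := by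
    have := conj_cj (g := x) hq
    rwa [cj_eq_of_mem_normalizer (le_normalizer_o2 R hx)] at this
  exact ⟨h1, (h.rt j _ (h.o2T h1) (centralizer_le hlU (h.o2U h1))).1⟩

end act

end Fr

end Cfsg.Agent.Omega.NOThreeL.RWide.UniT

end

section


/-!
# UNI_T: LEMMA FIX (helper860 #27010 (7)) over the frame `Fr`

* `Fr.fixV'` : `X ≤ E c ∩ Q`, `[X, Q] ≤ l c` ⇒ `[X, Q] = 1` (`Q = C_T(∏ N b)`).
-/

set_option autoImplicit false
set_option linter.unusedSectionVars false

namespace Cfsg.Agent.Omega.NOThreeL.RWide.UniT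

open Subgroup Cfsg Cfsg.Agent.Omega.MinPar
open Cfsg.Agent.ZN (zc o2 zl)
open Cfsg.Agent.ZN.ChoiceBase (cj cj_mono cj_inf cj_centralizer cj_eq_of_mem_normalizer mem_cj mem_normalizer_iff_cj
  cj_cj_inv cj_inv_cj cj_cj cj_one isPGroup_cj card_cj AA mem_normalizer_of_cj_le cj_le_iff isElementaryAbelian_cj)
open Cfsg.Agent.ZN.ChoiceSit (Syl syl_not_dvd le_normalizer_o2 o2_le_syl o2_le)
open Cfsg.Agent.MinSimple.MinParabolic (IsMinPar)
open Cfsg.Agent.Omega.SQ1.Bau (mem_sup_comm)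

universe u v

variable {G : Type u} [Group G] {ι : Type v}

/-- counting along a homomorphism -/
theorem card_ker_range [Finite G] {K : Subgroup G} (φ : K →* G) {C D : Subgroup G}
    (hC : ∀ k : K, φ k = 1 → (k : G) ∈ C) (hD : ∀ k : K, φ k ∈ D) : Nat.card K ≤ Nat.card ↥(K ⊓ C) * Nat.card D := by
  have h1 : Nat.card K = Nat.card φ.ker * Nat.card φ.range := by
    rw [← Subgroup.card_mul_index φ.ker, Subgroup.index_ker]
  rw [h1]
  refine Nat.mul_le_mul ?_ ?_
  · refine Nat.card_le_card_of_injective (fun k : φ.ker => (⟨(k : K), mem_inf.2 ⟨(k : K).2, hC _ k.2⟩⟩ : ↥(K ⊓ C))) ?_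
    intro a b hab
    have h2 := congrArg Subtype.val hab
    exact Subtype.ext (Subtype.ext h2)
  · refine Subgroup.card_le_of_le ?_
    rintro _ ⟨k, rfl⟩
    exact hD k

/-- counting along a homomorphism, from below -/
theorem card_ker_range' [Finite G] {K : Subgroup G} (φ : K →* G) {C D : Subgroup G}
    (hC : ∀ k : K, (k : G) ∈ C → φ k = 1) (hD : ∀ d ∈ D, ∃ k : K, φ k = d) :
    Nat.card ↥(K ⊓ C) * Nat.card D ≤ Nat.card K := by
  have h1 : Nat.card K = Nat.card φ.ker * Nat.card φ.range := by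
    rw [← Subgroup.card_mul_index φ.ker, Subgroup.index_ker]
  rw [h1]
  refine Nat.mul_le_mul ?_ ?_
  · refine Nat.card_le_card_of_injective
      (fun k : ↥(K ⊓ C) => (⟨⟨(k : G), (mem_inf.1 k.2).1⟩, hC _ (mem_inf.1 k.2).2⟩ : φ.ker)) ?_
    intro a b hab
    have h2 := congrArg (fun t : φ.ker => ((t : K) : G)) hab
    exact Subtype.ext h2
  · refine Subgroup.card_le_of_le ?_
    intro d hd
    obtain ⟨k, hk⟩ := hD d hd
    exact ⟨k, hk⟩

namespace Fr

variable [Finite G] {T O R : Subgroup G} {N l E : ι → Subgroup G} {j : ι} (h : Fr T O R N l E j)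
include h

theorem T_norm_V : T ≤ normalizer ((⨆ b, N b : Subgroup G) : Set G) := by
  intro t ht
  refine mem_normalizer_of_cj_le ?_
  show Subgroup.map _ (⨆ b, N b) ≤ _
  rw [Subgroup.map_iSup]
  exact iSup_mono fun b => (cj_eq_of_mem_normalizer (h.TN b ht)).le

theorem T_norm_Q : T ≤ normalizer ((T ⊓ centralizer ((⨆ b, N b : Subgroup G) : Set G) : Subgroup G) : Set G) := by
  intro t ht
  rw [mem_normalizer_iff_cj, cj_inf, cj_centralizer, cj_eq_of_mem_normalizer (h.T_norm_V ht),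
    cj_eq_of_mem_normalizer (le_normalizer ht)]

/-- **LEMMA FIX** -/
theorem fixV' {c : ι} (hc : c ≠ j) {X : Subgroup G} (hX : X ≤ E c)
    (hXQ : X ≤ T ⊓ centralizer ((⨆ b, N b : Subgroup G) : Set G))
    (hl : ∀ x ∈ X, ∀ g ∈ T ⊓ centralizer ((⨆ b, N b : Subgroup G) : Set G), x * g * x⁻¹ * g⁻¹ ∈ l c) :
    T ⊓ centralizer ((⨆ b, N b : Subgroup G) : Set G) ≤ centralizer (X : Set G) := by
  set V : Subgroup G := ⨆ b, N b with hV
  set Q := T ⊓ centralizer (V : Set G) with hQ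
  have hNV : ∀ b, N b ≤ V := le_iSup N
  obtain ⟨m, hmE, hmN, hmC, hmQ, hml⟩ := h.lam c hc
  obtain ⟨A, hA, hAc, hAb⟩ := h.pure c
  have hAT : A ≤ T := hA.2.1.trans h.OT
  have hF : Full A (N c) (l c) := (h.T_one hc (h.EO c hc) (h.NE c hc) hA hAT).resolve_left hAc
  intro g0 hg0
  rw [mem_c]
  intro e he
  set f := m * e * m⁻¹ with hf
  have hfE : f ∈ E c := by
    have := conj_cj (g := m) (hX he)
    rwa [cj_eq_of_mem_normalizer hmE] at this
  have hfQ : f ∈ Q := by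
    have := conj_cj (g := m) (hXQ he)
    rwa [cj_eq_of_mem_normalizer hmQ] at this
  have hy : ∀ g ∈ Q, f * g * f⁻¹ * g⁻¹ ∈ cj m (l c) := by
    intro g hg
    have h1 : m⁻¹ * g * m ∈ Q := by
      have := conj_cj (g := m⁻¹) hg
      rwa [cj_eq_of_mem_normalizer (inv_mem hmQ), inv_inv] at this
    have h2 := conj_cj (g := m) (hl e he _ h1)
    have e1 : m * (e * (m⁻¹ * g * m) * e⁻¹ * (m⁻¹ * g * m)⁻¹) * m⁻¹ = f * g * f⁻¹ * g⁻¹ := by rw [hf]; group
    rwa [e1] at h2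
  have hyN : cj m (l c) ≤ N c := by
    have := cj_mono m (h.lN c)
    rwa [cj_eq_of_mem_normalizer hmN] at this
  -- `A₀ = C_A(N c) ≤ Q`
  set A0 := A ⊓ centralizer (N c : Set G) with hA0
  have hA0Q : A0 ≤ Q := by
    refine le_inf (inf_le_left.trans hAT) fun a ha => mem_c.2 fun v hv => ?_
    have h1 : V ≤ centralizer ((zpowers a : Subgroup G) : Set G) := by
      refine iSup_le fun b w hw => ?_
      rw [mem_centralizer_iff]
      rintro _ ⟨k, rfl⟩
      have h2 : a * w = w * a := by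
        by_cases hb : b = c
        · subst hb
          exact mem_c.1 (mem_inf.1 ha).2 w hw
        · exact mem_c.1 (hAb b hb (mem_inf.1 ha).1) w hw
      exact (Commute.zpow_left (show Commute a w from h2) k)
    exact (mem_centralizer_iff.1 (h1 hv)) _ (mem_zpowers _)
  have hQV : ∀ g ∈ Q, ∀ v ∈ V, g * v = v * g := fun g hg v hv => mem_c.1 (mem_inf.1 hg).2 v hv
  have hAQ : ∀ a ∈ A, ∀ g ∈ Q, a * g * a⁻¹ ∈ Q := fun a ha g hg => by
    have := conj_cj (g := a) hg
    rwa [cj_eq_of_mem_normalizer (h.T_norm_Q (hAT ha))] at this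
  by_cases hcase : ∀ α ∈ A0, f * α = α * f
  · -- (i)
    have hE1 : A0 ⊔ N c ∈ AA O := by
      refine swap_mem hA (h.Neab c) (h.NO c) ?_
      rw [hF.inf_eq (h.lN c) (h.lne c), hF.cardA, h.cardN c]
      exact le_of_eq (by ring)
    have hfz : zpowers f ≤ E c := by rwa [zpowers_le]
    have hfE1 : f ∈ A0 ⊔ N c := by
      refine cent_le hE1 (eab_mono (h.eab c hc) hfz) (hfz.trans (h.EO c hc)) (mem_inf.2 ⟨mem_zpowers f, ?_⟩)
      rw [mem_c]
      intro x hx
      have hcA : ∀ α ∈ A0, ∀ n ∈ N c, α * n = n * α := fun α hα n hn => mem_c.1 (mem_inf.1 hα).2 n hn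
      obtain ⟨α, hα, n, hn, rfl⟩ := mem_sup_comm hcA hx
      rw [← mul_assoc, hcase α hα, mul_assoc, hQV f hfQ n (hNV c hn), mul_assoc]
    have hcA : ∀ α ∈ A0, ∀ n ∈ N c, α * n = n * α := fun α hα n hn => mem_c.1 (mem_inf.1 hα).2 n hn
    obtain ⟨α, hα, n, hn, hfan⟩ := mem_sup_comm hcA hfE1
    have hAf : ∀ a ∈ A, a * f * a⁻¹ * f⁻¹ ∈ l c := by
      intro a ha
      have e1 : a * α = α * a := eab_comm hA.1 ha (mem_inf.1 hα).1
      have e2 : a * (α * n) * a⁻¹ * (α * n)⁻¹ = α * (a * n * a⁻¹ * n⁻¹) * α⁻¹ := by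
        calc a * (α * n) * a⁻¹ * (α * n)⁻¹ = (a * α) * n * a⁻¹ * n⁻¹ * α⁻¹ := by group
          _ = (α * a) * n * a⁻¹ * n⁻¹ * α⁻¹ := by rw [e1]
          _ = _ := by group
      rw [hfan, e2]
      have h1 := hF.inl a ha n hn
      rw [hcA α hα _ (h.lN c h1), mul_inv_cancel_right]
      exact h1
    have hw1 : ∀ g ∈ Q, f * g * f⁻¹ * g⁻¹ = 1 := by
      intro g hg
      by_contra hw
      set w := f * g * f⁻¹ * g⁻¹ with hwdef
      have hwy := hy g hg
      have hwl : w ∉ l c := fun h1 => hw (by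
        have : w ∈ cj m (l c) ⊓ l c := mem_inf.2 ⟨hwy, h1⟩
        rwa [hml, mem_bot] at this)
      obtain ⟨z, hz, hz1⟩ := exists_ne_of (h.lne c)
      obtain ⟨a, ha, haz⟩ := hF.onA w (hyN hwy) hwl z hz
      have h1 : a * w * a⁻¹ ∈ cj m (l c) := by
        obtain ⟨z', hz', hzf⟩ : ∃ z' ∈ l c, a * f * a⁻¹ = z' * f := ⟨_, hAf a ha, by group⟩
        have hz'V : z' ∈ V := hNV c (h.lN c hz')
        have hg' := hAQ a ha g hg
        have e1 : a * w * a⁻¹ = (a * f * a⁻¹) * (a * g * a⁻¹) * (a * f * a⁻¹)⁻¹ * (a * g * a⁻¹)⁻¹ := by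
          rw [hwdef]; group
        set g' := a * g * a⁻¹ with hg'def
        have e2 : z' * f * g' * (z' * f)⁻¹ * g'⁻¹ = z' * (f * g' * f⁻¹ * g'⁻¹) * z'⁻¹ := by
          have e3 : z'⁻¹ * g'⁻¹ = g'⁻¹ * z'⁻¹ := (show Commute z' g' from (hQV g' hg' z' hz'V).symm).inv_inv.eq
          calc z' * f * g' * (z' * f)⁻¹ * g'⁻¹ = z' * f * g' * f⁻¹ * (z'⁻¹ * g'⁻¹) := by group
            _ = _ := by rw [e3]; group
        rw [e1, hzf, e2]
        have h2 := hy g' hg'
        have h3 : (f * g' * f⁻¹ * g'⁻¹) ∈ V := hNV c (hyN h2)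
        rw [mem_c.1 (h.com c c (h.lN c hz')) _ (hyN h2), mul_inv_cancel_right]
        exact h2
      have h2 : z ∈ cj m (l c) ⊓ l c := by
        refine mem_inf.2 ⟨?_, hz⟩
        rw [← haz]
        exact mul_mem h1 (inv_mem hwy)
      rw [hml, mem_bot] at h2
      exact hz1 h2
    -- back to `e`
    have h1 : m * g0 * m⁻¹ ∈ Q := by
      have := conj_cj (g := m) hg0
      rwa [cj_eq_of_mem_normalizer hmQ] at this
    have h2 := comm_of_one (hw1 _ h1)
    have e1 : g0 * e = m⁻¹ * ((m * g0 * m⁻¹) * f) * m := by rw [hf]; group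
    have e2 : e * g0 = m⁻¹ * (f * (m * g0 * m⁻¹)) * m := by rw [hf]; group
    rw [e1, e2, h2]
  · -- (ii)
    exfalso
    push Not at hcase
    obtain ⟨α, hα, hαf⟩ := hcase
    set X' : Subgroup G := N c ⊔ closure {x | ∃ a ∈ A, a * f * a⁻¹ = x} with hX'
    have hAE : ∀ a ∈ A, ∀ x ∈ E c, a * x * a⁻¹ ∈ E c := fun a ha x hx => by
      have := conj_cj (g := a) hx
      rwa [h.cjE hc (h.TR (hAT ha))] at this
    have hX'E : X' ≤ E c := by
      refine sup_le (h.NE c hc) ((closure_le _).2 ?_)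
      rintro _ ⟨a, ha, rfl⟩
      exact hAE a ha f hfE
    have hX'eab := eab_mono (h.eab c hc) hX'E
    have hfX : ∀ a ∈ A, a * f * a⁻¹ ∈ X' := fun a ha => le_sup_right (a := N c) (subset_closure ⟨a, ha, rfl⟩)
    have hthom := thom hA hX'eab (hX'E.trans (h.EO c hc))
    -- `|A₀| ≤ |A₁| q`
    have hcomm : ∀ β ∈ A0, ∀ v ∈ N c, β * v = v * β := fun β hβ v hv => mem_c.1 (mem_inf.1 hβ).2 v hv
    let φ : A0 →* G :=
      { toFun := fun β => f * β * f⁻¹ * (β : G)⁻¹
        map_one' := by simp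
        map_mul' := by
          intro β γ
          have h1 : f * γ * f⁻¹ * (γ : G)⁻¹ ∈ N c := hyN (hy _ (hA0Q γ.2))
          have h2 := hcomm β β.2 _ h1
          have e1 : f * ((β : G) * (γ : G)) * f⁻¹ * ((β : G) * (γ : G))⁻¹ =
              (f * β * f⁻¹ * (β : G)⁻¹) * (β * (f * γ * f⁻¹ * (γ : G)⁻¹) * (β : G)⁻¹) := by group
          show f * ((β : G) * (γ : G)) * f⁻¹ * ((β : G) * (γ : G))⁻¹ = _
          rw [e1, h2, mul_inv_cancel_right] }
    have hA1 : Nat.card A0 ≤ Nat.card ↥(A0 ⊓ centralizer ((zpowers f : Subgroup G) : Set G)) * Nat.card (l c) := by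
      have h1 := card_ker_range φ (C := centralizer ((zpowers f : Subgroup G) : Set G)) (D := cj m (l c)) ?_ ?_
      · rwa [card_cj] at h1
      · intro β hβ
        have h2 : f * β = β * f := comm_of_one hβ
        rw [mem_centralizer_iff]
        rintro _ ⟨k, rfl⟩
        exact (Commute.zpow_left (show Commute f (β : G) from h2) k)
      · exact fun β => hy _ (hA0Q β.2)
    have hA1X : A0 ⊓ centralizer ((zpowers f : Subgroup G) : Set G) ≤ A ⊓ centralizer (X' : Set G) := by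
      intro β hβ
      obtain ⟨hβ0, hβf⟩ := mem_inf.1 hβ
      refine mem_inf.2 ⟨(mem_inf.1 hβ0).1, ?_⟩
      have hbf : f * β = β * f := (mem_c.1 hβf f (mem_zpowers f)).symm
      have h1 : X' ≤ centralizer ((zpowers β : Subgroup G) : Set G) := by
        have key : ∀ w, β * w = w * β → w ∈ centralizer ((zpowers β : Subgroup G) : Set G) := by
          intro w hw
          rw [mem_centralizer_iff]
          rintro _ ⟨k, rfl⟩
          exact (Commute.zpow_left (show Commute β w from hw) k)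
        refine sup_le (fun w hw => key w (hcomm β hβ0 w hw)) ((closure_le _).2 ?_)
        rintro _ ⟨a, ha, rfl⟩
        refine key _ ?_
        have e1 : β * a = a * β := eab_comm hA.1 (mem_inf.1 hβ0).1 ha
        have e2 : a⁻¹ * β = β * a⁻¹ := eab_comm hA.1 (inv_mem ha) (mem_inf.1 hβ0).1
        calc β * (a * f * a⁻¹) = (β * a) * f * a⁻¹ := by group
          _ = a * (β * f) * a⁻¹ := by rw [e1]; group
          _ = a * f * (β * a⁻¹) := by rw [← hbf]; group
          _ = a * f * a⁻¹ * β := by rw [← e2]; group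
      rw [mem_c]
      intro x hx
      exact (mem_centralizer_iff.1 (h1 hx)) _ (mem_zpowers _)
    -- `|X'| ≥ 2 q² |C_X'(A)|`
    have hαT : α ∈ T := hAT (mem_inf.1 hα).1
    have hαE : ∀ x ∈ E c, α * x * α⁻¹ ∈ E c := hAE α (mem_inf.1 hα).1
    let θ : X' →* G :=
      { toFun := fun x => x * (α * (x : G)⁻¹ * α⁻¹)
        map_one' := by simp
        map_mul' := by
          intro x y
          have h1 : α * (x : G)⁻¹ * α⁻¹ ∈ E c := hαE _ (inv_mem (hX'E x.2))
          have h2 : α * (y : G)⁻¹ * α⁻¹ ∈ E c := hαE _ (inv_mem (hX'E y.2))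
          have h3 := eab_comm (h.eab c hc) (mul_mem (hX'E y.2) h2) h1
          show (x : G) * y * (α * ((x : G) * y)⁻¹ * α⁻¹) = _
          calc (x : G) * y * (α * ((x : G) * y)⁻¹ * α⁻¹)
              = x * ((y * (α * (y : G)⁻¹ * α⁻¹)) * (α * (x : G)⁻¹ * α⁻¹)) := by group
            _ = x * ((α * (x : G)⁻¹ * α⁻¹) * (y * (α * (y : G)⁻¹ * α⁻¹))) := by rw [h3]
            _ = _ := by group }
    set μ := f * α * f⁻¹ * α⁻¹ with hμ
    have hμy : μ ∈ cj m (l c) := hy α (hA0Q hα)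
    have hμ1 : μ ≠ 1 := fun h1 => hαf (comm_of_one h1)
    have hμl : μ ∉ l c := fun h1 => hμ1 (by
      have : μ ∈ cj m (l c) ⊓ l c := mem_inf.2 ⟨hμy, h1⟩
      rwa [hml, mem_bot] at this)
    have hθf : ∀ a ∈ A, ∀ ha : a * f * a⁻¹ ∈ X', θ ⟨a * f * a⁻¹, ha⟩ = a * μ * a⁻¹ := by
      intro a ha haX
      show (a * f * a⁻¹) * (α * (a * f * a⁻¹)⁻¹ * α⁻¹) = a * μ * a⁻¹
      have e1 : α * a = a * α := eab_comm hA.1 (mem_inf.1 hα).1 ha
      have e2 : a⁻¹ * α⁻¹ = α⁻¹ * a⁻¹ := eab_comm hA.1 (inv_mem ha) (inv_mem (mem_inf.1 hα).1)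
      calc (a * f * a⁻¹) * (α * (a * f * a⁻¹)⁻¹ * α⁻¹)
          = a * f * a⁻¹ * (α * a) * f⁻¹ * (a⁻¹ * α⁻¹) := by group
        _ = a * μ * a⁻¹ := by rw [e1, e2, hμ]; group
    set D := θ.range with hD
    have hμD : μ ∈ D := by
      have h1 : (1 : G) * f * (1 : G)⁻¹ ∈ X' := hfX 1 (one_mem A)
      refine ⟨⟨_, h1⟩, ?_⟩
      rw [hθf 1 (one_mem A) h1, one_mul, inv_one, mul_one]
    have hlD : l c ≤ D := by
      intro z hz
      obtain ⟨a, ha, haz⟩ := hF.onA μ (hyN hμy) hμl z hz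
      rw [← haz]
      exact mul_mem ⟨⟨_, hfX a ha⟩, hθf a ha _⟩ (inv_mem hμD)
    have hD2 : 2 * Nat.card (l c) ≤ Nat.card D := by
      obtain ⟨k, hk⟩ := Subgroup.card_dvd_of_le hlD
      have h1 : k ≠ 1 := by
        rintro rfl
        rw [mul_one] at hk
        exact hμl ((Subgroup.eq_of_le_of_card_ge hlD hk.le).ge hμD)
      have h2 : k ≠ 0 := by
        rintro rfl
        rw [mul_zero] at hk
        exact Nat.card_pos.ne' hk
      rw [hk, mul_comm]
      exact Nat.mul_le_mul_left _ (by omega)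
    have hX1 : Nat.card ↥(X' ⊓ centralizer ((zpowers α : Subgroup G) : Set G)) * Nat.card D ≤ Nat.card X' := by
      refine card_ker_range' θ ?_ (fun d hd => hd)
      intro x hx
      have h1 : (x : G) * α = α * x := mem_c.1 hx α (mem_zpowers α)
      have h2 : α * (x : G)⁻¹ = (x : G)⁻¹ * α := (show Commute α (x : G) from h1.symm).inv_right.eq
      show (x : G) * (α * (x : G)⁻¹ * α⁻¹) = 1
      rw [h2]
      group
    have hX2 : Nat.card (l c) * Nat.card ↥(X' ⊓ centralizer (A : Set G)) ≤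
        Nat.card ↥(X' ⊓ centralizer ((zpowers α : Subgroup G) : Set G)) := by
      have h1 : X' ⊓ centralizer (A : Set G) ≤ centralizer (N c : Set G) := fun x hx =>
        mem_c.2 fun v hv => eab_comm hX'eab (mem_inf.1 hx).1 (le_sup_left (a := N c) hv)
      have h2 := Cfsg.Agent.PLocal.ElemAbSup.card_sup_mul_card_inf h1
      have h3 : N c ⊓ (X' ⊓ centralizer (A : Set G)) = l c := by
        rw [← inf_assoc, inf_eq_left.2 (le_sup_left : N c ≤ X'), hF.inf_eq (h.lN c) (h.lne c)]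
      rw [h3, h.cardN c] at h2
      have h4 : N c ⊔ (X' ⊓ centralizer (A : Set G)) ≤ X' ⊓ centralizer ((zpowers α : Subgroup G) : Set G) := by
        have h5 : zpowers α ≤ A := by rw [zpowers_le]; exact (mem_inf.1 hα).1
        refine sup_le (le_inf le_sup_left fun v hv => ?_) (inf_le_inf_left _ (centralizer_le h5))
        rw [mem_centralizer_iff]
        rintro _ ⟨k, rfl⟩
        exact (Commute.zpow_left (show Commute α v from hcomm α hα v hv) k)
      have h6 := Subgroup.card_le_of_le h4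
      refine le_trans ?_ h6
      have h7 : 0 < Nat.card (l c) := Nat.card_pos
      refine Nat.le_of_mul_le_mul_right ?_ h7
      rw [h2]
      exact le_of_eq (by ring)
    -- the contradiction
    have hAc' : Nat.card A ≤ Nat.card ↥(A ⊓ centralizer (X' : Set G)) * Nat.card (l c) * Nat.card (l c) := by
      rw [hF.cardA]
      exact Nat.mul_le_mul_right _ (hA1.trans (Nat.mul_le_mul_right _ (Subgroup.card_le_of_le hA1X)))
    have hp1 : 0 < Nat.card ↥(A ⊓ centralizer (X' : Set G)) := Nat.card_pos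
    have hp2 : 0 < Nat.card ↥(X' ⊓ centralizer (A : Set G)) := Nat.card_pos
    have hp3 : 0 < Nat.card (l c) := Nat.card_pos
    have hfin : Nat.card X' ≤ Nat.card (l c) * Nat.card (l c) * Nat.card ↥(X' ⊓ centralizer (A : Set G)) := by
      refine Nat.le_of_mul_le_mul_right ?_ hp1
      calc Nat.card X' * Nat.card ↥(A ⊓ centralizer (X' : Set G))
          ≤ Nat.card A * Nat.card ↥(X' ⊓ centralizer (A : Set G)) := hthom
        _ ≤ (Nat.card ↥(A ⊓ centralizer (X' : Set G)) * Nat.card (l c) * Nat.card (l c)) *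
            Nat.card ↥(X' ⊓ centralizer (A : Set G)) := Nat.mul_le_mul_right _ hAc'
        _ = _ := by ring
    have hlow : 2 * (Nat.card (l c) * Nat.card (l c) * Nat.card ↥(X' ⊓ centralizer (A : Set G))) ≤ Nat.card X' := by
      calc 2 * (Nat.card (l c) * Nat.card (l c) * Nat.card ↥(X' ⊓ centralizer (A : Set G)))
          = (Nat.card (l c) * Nat.card ↥(X' ⊓ centralizer (A : Set G))) * (2 * Nat.card (l c)) := by ring
        _ ≤ Nat.card ↥(X' ⊓ centralizer ((zpowers α : Subgroup G) : Set G)) * Nat.card D := Nat.mul_le_mul hX2 hD2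
        _ ≤ _ := hX1
    have hp4 : 0 < Nat.card (l c) * Nat.card (l c) * Nat.card ↥(X' ⊓ centralizer (A : Set G)) :=
      Nat.mul_pos (Nat.mul_pos hp3 hp3) hp2
    omega

end Fr

end Cfsg.Agent.Omega.NOThreeL.RWide.UniT

end

end
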